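import Cfsg.Agent.StdLy.Cov
import Cfsg.Agent.S2119
import Cfsg.Agent.Co3Rec.Std.Glue
import Cfsg.Agent.Invol.ZStar

/-!
What a standard double cover of the alternating group of degree eleven gives at its central involution.
-/

set_option autoImplicit false

namespace Cfsg.Agent.StdLy

open Equiv Equiv.Perm Subgroup
open scoped commutatorElement

/-- The configuration at the central involution of the cover. -/
structure Base {M : Type*} [Group M] (c : Cov M) (G : Type*) [Group G] where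
  φ : M →* G
  inj : Function.Injective φ
  K : Subgroup G
  mem_K : ∀ g : G, g ∈ K ↔ ∀ a, g * φ a = φ a * g
  ψ : G → P11
  spec : ∀ g : G, g * φ c.z = φ c.z * g →
    ∀ a, ∃ b, g * φ a * g⁻¹ = φ b ∧ c.π b = ψ g * c.π a * (ψ g)⁻¹
  small : ∀ k ∈ K, k * k = 1 → k ≠ 1 → ∀ g : G, g * k = k * g → g * φ c.z = φ c.z * g
  uniq : ∀ g : G, g * φ c.z * g⁻¹ ∈ K → g * φ c.z * g⁻¹ = φ c.z

theorem conj_alt_injective {σ τ : P11}
    (h : ∀ p ∈ alternatingGroup (Fin 11), σ * p * σ⁻¹ = τ * p * τ⁻¹) : σ = τ :=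
  (S2119.result 11 (by norm_num) (by norm_num)).1 (MulEquiv.ext fun p => Subtype.ext (by
    simp only [MulAut.conjNormal_apply]
    exact h p p.2))

namespace Base

variable {M : Type*} [Group M] {c : Cov M} {G : Type*} [Group G] (S : Base c G)

/-- The involution. -/
def z : G := S.φ c.z

theorem z_sq : S.z * S.z = 1 := by rw [z, ← map_mul, c.z_sq, map_one]

theorem z_ne : S.z ≠ 1 := (map_ne_one_iff _ S.inj).2 c.z_ne

theorem z_mem_K : S.z ∈ S.K :=
  (S.mem_K _).2 fun a => by rw [z, ← map_mul, ← map_mul, c.z_comm]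

theorem φ_comm_z (a : M) : S.φ a * S.z = S.z * S.φ a := ((S.mem_K _).1 S.z_mem_K a).symm

theorem K_comm_z {k : G} (hk : k ∈ S.K) : k * S.z = S.z * k := (S.mem_K k).1 hk c.z

theorem K_comm {k : G} (hk : k ∈ S.K) (a : M) : k * S.φ a = S.φ a * k := (S.mem_K k).1 hk a

theorem φ_mem_K {a : M} (h : S.φ a ∈ S.K) : a = 1 ∨ a = c.z := by
  refine (c.ker a).1 (conj_alt_injective fun p hp => ?_)
  obtain ⟨b, rfl⟩ := c.exists_lift hp
  rw [← map_inv, ← map_mul, ← map_mul, one_mul, inv_one, mul_one]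
  congr 1
  apply S.inj
  rw [map_mul, map_mul, map_inv, S.K_comm h b, mul_inv_cancel_right]

theorem ψ_eq {g : G} (hg : g * S.z = S.z * g) {σ : P11}
    (h : ∀ a, ∃ b, g * S.φ a * g⁻¹ = S.φ b ∧ c.π b = σ * c.π a * σ⁻¹) : S.ψ g = σ := by
  refine conj_alt_injective fun p hp => ?_
  obtain ⟨a, rfl⟩ := c.exists_lift hp
  obtain ⟨b, hb, hb'⟩ := S.spec g hg a
  obtain ⟨d, hd, hd'⟩ := h a
  rw [← hb', ← hd', S.inj (hb.symm.trans hd)]

theorem ψ_φ (a : M) : S.ψ (S.φ a) = c.π a :=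
  S.ψ_eq (S.φ_comm_z a) fun b => ⟨a * b * a⁻¹, by rw [map_mul, map_mul, map_inv],
    by rw [map_mul, map_mul, map_inv]⟩

theorem ψ_K {k : G} (hk : k ∈ S.K) : S.ψ k = 1 :=
  S.ψ_eq (S.K_comm_z hk) fun a => ⟨a, by rw [S.K_comm hk, mul_inv_cancel_right], by simp⟩

theorem ψ_mul {g h : G} (hg : g * S.z = S.z * g) (hh : h * S.z = S.z * h) :
    S.ψ (g * h) = S.ψ g * S.ψ h := by
  refine S.ψ_eq (Commute.mul_left hg hh) fun a => ?_
  obtain ⟨b, hb, hb'⟩ := S.spec h hh a
  obtain ⟨d, hd, hd'⟩ := S.spec g hg b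
  refine ⟨d, ?_, by rw [hd', hb']; group⟩
  rw [← hd, ← hb]
  group

theorem ψ_one : S.ψ 1 = 1 := S.ψ_K (one_mem _)

theorem ψ_inv {g : G} (hg : g * S.z = S.z * g) : S.ψ g⁻¹ = (S.ψ g)⁻¹ := by
  refine eq_inv_of_mul_eq_one_left ?_
  rw [← S.ψ_mul (Commute.inv_left hg) hg, inv_mul_cancel, S.ψ_one]

/-- An element centralises what it commutes with modulo the centre on commutators. -/
theorem comm_of_ψ {g : G} (hg : g * S.z = S.z * g) {p q : M}
    (hp : S.ψ g * c.π p = c.π p * S.ψ g) (hq : S.ψ g * c.π q = c.π q * S.ψ g) :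
    g * S.φ ⁅p, q⁆ = S.φ ⁅p, q⁆ * g := by
  have key : ∀ {r}, S.ψ g * c.π r = c.π r * S.ψ g →
      g * S.φ r * g⁻¹ = S.φ r ∨ g * S.φ r * g⁻¹ = S.φ r * S.z := by
    intro r hr
    obtain ⟨b, hb, hb'⟩ := S.spec g hg r
    rw [hr, mul_inv_cancel_right] at hb'
    rcases c.lift_cases hb' with rfl | rfl
    · exact Or.inl hb
    · exact Or.inr (by rw [hb, map_mul]; rfl)
  have hz : ∀ r s : M, ⁅S.φ r * S.z, S.φ s⁆ = S.φ ⁅r, s⁆ ∧ ⁅S.φ r, S.φ s * S.z⁆ = S.φ ⁅r, s⁆ ∧
      ⁅S.φ r * S.z, S.φ s * S.z⁆ = S.φ ⁅r, s⁆ := by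
    intro r s
    have h1 : ∀ a b : M, ⁅a * c.z, b⁆ = ⁅a, b⁆ := fun a b => by
      simp only [commutatorElement_def, mul_inv_rev]
      calc a * c.z * b * (c.z⁻¹ * a⁻¹) * b⁻¹ = a * (c.z * b) * c.z⁻¹ * a⁻¹ * b⁻¹ := by group
        _ = _ := by rw [← c.z_comm]; group
    have h2 : ∀ a b : M, ⁅a, b * c.z⁆ = ⁅a, b⁆ := fun a b => by
      rw [← inv_inj, commutatorElement_inv, commutatorElement_inv, h1]
    simp only [z, ← map_mul, ← map_commutatorElement, h1, h2, and_self]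
  have e : g * S.φ ⁅p, q⁆ * g⁻¹ = ⁅g * S.φ p * g⁻¹, g * S.φ q * g⁻¹⁆ := by
    rw [map_commutatorElement]
    simp only [commutatorElement_def]
    group
  rcases key hp with e1 | e1 <;> rcases key hq with e2 | e2 <;> rw [e1, e2] at e <;>
    (try simp only [(hz _ _).1, (hz _ _).2.1, (hz _ _).2.2, ← map_commutatorElement] at e) <;>
    exact mul_inv_eq_iff_eq_mul.1 e

/-- A perfect subgroup whose image commutes with an element is centralised by it. -/
theorem comm_of_perfect {g : G} (hg : g * S.z = S.z * g) {R : Subgroup M} (hR : ⁅R, R⁆ = R)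
    (h : ∀ a ∈ R, S.ψ g * c.π a = c.π a * S.ψ g) : ∀ a ∈ R, g * S.φ a = S.φ a * g := by
  intro a ha
  have hle : ⁅R, R⁆ ≤ (centralizer ({g} : Set G)).comap S.φ := by
    rw [Subgroup.commutator_le]
    intro p hp q hq
    rw [mem_comap, mem_centralizer_singleton_iff]
    exact (S.comm_of_ψ hg (h p hp) (h q hq)).symm
  exact (mem_centralizer_singleton_iff.1 (hle (hR.symm ▸ ha))).symm

theorem mem_K_of_ψ {g : G} (hg : g * S.z = S.z * g) (h : S.ψ g = 1) : g ∈ S.K :=
  (S.mem_K g).2 fun a => S.comm_of_perfect hg c.perfect (fun b _ => by rw [h, one_mul, mul_one]) a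
    (mem_top a)

/-- An element with even image splits. -/
theorem exists_split {g : G} (hg : g * S.z = S.z * g) (h : S.ψ g ∈ alternatingGroup (Fin 11)) :
    ∃ a, ∃ k ∈ S.K, g = S.φ a * k ∧ c.π a = S.ψ g := by
  obtain ⟨a, ha⟩ := c.exists_lift h
  refine ⟨a, (S.φ a)⁻¹ * g, ?_, by group, ha⟩
  have ha' : (S.φ a)⁻¹ * S.z = S.z * (S.φ a)⁻¹ := Commute.inv_left (S.φ_comm_z a)
  refine S.mem_K_of_ψ (Commute.mul_left ha' hg) ?_
  rw [S.ψ_mul ha' hg, S.ψ_inv (S.φ_comm_z a), S.ψ_φ, ha, inv_mul_cancel]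

/-- The conjugate configuration. -/
def conj (g : G) : Base c G where
  φ := (MulAut.conj g).toMonoidHom.comp S.φ
  inj := (MulAut.conj g).injective.comp S.inj
  K := S.K.map (MulAut.conj g).toMonoidHom
  mem_K h := by
    rw [mem_map_equiv, MulAut.conj_symm_apply, S.mem_K]
    refine forall_congr' fun a => ?_
    show g⁻¹ * h * g * S.φ a = S.φ a * (g⁻¹ * h * g) ↔
      h * (g * S.φ a * g⁻¹) = g * S.φ a * g⁻¹ * h
    rw [← (MulAut.conj g).injective.eq_iff]
    simp only [MulAut.conj_apply]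
    rw [show g * (g⁻¹ * h * g * S.φ a) * g⁻¹ = h * (g * S.φ a * g⁻¹) by group,
      show g * (S.φ a * (g⁻¹ * h * g)) * g⁻¹ = g * S.φ a * g⁻¹ * h by group]
  ψ h := S.ψ (g⁻¹ * h * g)
  spec h hh a := by
    change h * (g * S.φ c.z * g⁻¹) = g * S.φ c.z * g⁻¹ * h at hh
    have hh' : g⁻¹ * h * g * S.z = S.z * (g⁻¹ * h * g) := by
      show g⁻¹ * h * g * S.φ c.z = S.φ c.z * (g⁻¹ * h * g)
      calc g⁻¹ * h * g * S.φ c.z = g⁻¹ * (h * (g * S.φ c.z * g⁻¹)) * g := by group
        _ = _ := by rw [hh]; group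
    obtain ⟨b, hb, hb'⟩ := S.spec _ hh' a
    refine ⟨b, ?_, hb'⟩
    show h * (g * S.φ a * g⁻¹) * h⁻¹ = g * S.φ b * g⁻¹
    rw [← hb]
    group
  small k hk h2 h1 h hh := by
    rw [mem_map_equiv, MulAut.conj_symm_apply] at hk
    have hh' : g⁻¹ * h * g * (g⁻¹ * k * g) = g⁻¹ * k * g * (g⁻¹ * h * g) := by
      calc g⁻¹ * h * g * (g⁻¹ * k * g) = g⁻¹ * (h * k) * g := by group
        _ = _ := by rw [hh]; group
    have := S.small _ hk (by rw [show g⁻¹ * k * g * (g⁻¹ * k * g) = g⁻¹ * (k * k) * g by group, h2]; group)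
      (fun e => h1 (by rw [show k = g * (g⁻¹ * k * g) * g⁻¹ by group, e]; group)) _ hh'
    show h * (g * S.φ c.z * g⁻¹) = g * S.φ c.z * g⁻¹ * h
    calc h * (g * S.φ c.z * g⁻¹) = g * (g⁻¹ * h * g * S.φ c.z) * g⁻¹ := by group
      _ = _ := by rw [this]; group
  uniq h hh := by
    change h * (g * S.φ c.z * g⁻¹) * h⁻¹ ∈ _ at hh
    rw [mem_map_equiv, MulAut.conj_symm_apply,
      show g⁻¹ * (h * (g * S.φ c.z * g⁻¹) * h⁻¹) * g = g⁻¹ * h * g * S.φ c.z * (g⁻¹ * h * g)⁻¹ by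
        group] at hh
    have := S.uniq _ hh
    show h * (g * S.φ c.z * g⁻¹) * h⁻¹ = g * S.φ c.z * g⁻¹
    calc h * (g * S.φ c.z * g⁻¹) * h⁻¹
        = g * (g⁻¹ * h * g * S.φ c.z * (g⁻¹ * h * g)⁻¹) * g⁻¹ := by group
      _ = _ := by rw [this]

theorem conj_z (g : G) : (S.conj g).z = g * S.z * g⁻¹ := rfl

theorem conj_φ (g : G) (a : M) : (S.conj g).φ a = g * S.φ a * g⁻¹ := rfl

theorem conj_ψ (g h : G) : (S.conj g).ψ h = S.ψ (g⁻¹ * h * g) := rfl

theorem conj_mem_K (g k : G) : k ∈ (S.conj g).K ↔ g⁻¹ * k * g ∈ S.K := by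
  show k ∈ S.K.map _ ↔ _
  rw [mem_map_equiv, MulAut.conj_symm_apply]

end Base

/-- A standard double cover gives the configuration and a commuting conjugate. -/
theorem exists_base {G : Type*} [Group G] [Finite G] [IsSimpleGroup G]
    (hG : ¬ IsMulCommutative G) (L : Subgroup G) (hL : Cfsg.IsStandardSubgroup L)
    (hLX : Cfsg.IsNonsplitDoubleCover ↥L ↥(alternatingGroup (Fin 11))) :
    ∃ (c : Cov L) (S : Base c G) (g : G),
      g * S.z * g⁻¹ * S.z = S.z * (g * S.z * g⁻¹) ∧ g * S.z * g⁻¹ ≠ S.z := by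
  classical
  obtain ⟨hq, htight, hcomm, hnorm⟩ := hL
  obtain ⟨c⟩ := exists_cov hLX
  set z : G := (c.z : G) with hzdef
  set K := centralizer (L : Set G) with hKdef
  have hmemK : ∀ g : G, g ∈ K ↔ ∀ a : L, g * a = a * g := fun g => by
    rw [hKdef, mem_centralizer_iff]
    exact ⟨fun h a => (h a a.2).symm, fun h y hy => (h ⟨y, hy⟩).symm⟩
  have hz2 : z * z = 1 := by rw [hzdef, ← Subgroup.coe_mul, c.z_sq, Subgroup.coe_one]
  have hz1 : z ≠ 1 := fun h => c.z_ne (Subtype.ext h)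
  have hzK : z ∈ K := (hmemK z).2 fun a => (congrArg Subtype.val (c.z_comm a)).symm
  have hnz : ∀ g ∈ normalizer (L : Set G), g * z = z * g := by
    intro g hg
    have hn := mem_normalizer_iff.1 hg
    have hyc : ∀ a : L, a * ⟨g * z * g⁻¹, (hn z).1 c.z.2⟩ = ⟨g * z * g⁻¹, (hn z).1 c.z.2⟩ * a := by
      intro a
      apply Subtype.ext
      show (a : G) * (g * z * g⁻¹) = g * z * g⁻¹ * a
      have hx : g⁻¹ * (a : G) * g ∈ L := (hn _).2 (by
        rw [show g * (g⁻¹ * (a : G) * g) * g⁻¹ = a by group]; exact a.2)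
      have := (hmemK z).1 hzK ⟨_, hx⟩
      change z * (g⁻¹ * (a : G) * g) = g⁻¹ * (a : G) * g * z at this
      calc (a : G) * (g * z * g⁻¹) = g * (g⁻¹ * a * g * z) * g⁻¹ := by group
        _ = _ := by rw [← this]; group
    have hπ : c.π ⟨g * z * g⁻¹, (hn z).1 c.z.2⟩ = 1 := conj_alt_injective fun p hp => by
      obtain ⟨b, rfl⟩ := c.exists_lift hp
      rw [← map_mul, ← hyc b, map_mul, mul_inv_cancel_right, one_mul, inv_one, mul_one]
    rcases (c.ker _).1 hπ with e | e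
    · exact absurd (conj_eq_one_iff.1 (congrArg Subtype.val e)) hz1
    · exact mul_inv_eq_iff_eq_mul.1 (congrArg Subtype.val e)
  have htN : ∀ j ∈ K, j * j = 1 → j ≠ 1 → ∀ g : G, g * j = j * g →
      g ∈ normalizer (L : Set G) := by
    intro j hj h2 h1 g hg
    rw [hnorm]
    by_contra hn
    refine Nat.not_even_iff_odd.2 (htight.2 g hn) (even_iff_two_dvd.2 ?_)
    have hj' : j ∈ K ⊓ K.map (MulAut.conj g).toMonoidHom :=
      ⟨hj, j, hj, by simp [MulAut.conj_apply, hg]⟩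
    have : Fact (Nat.Prime 2) := ⟨Nat.prime_two⟩
    rw [← orderOf_eq_prime (p := 2) (by rw [pow_two, h2]) h1, ← Nat.card_zpowers]
    exact card_dvd_of_le (zpowers_le.2 hj')
  -- the induced permutation
  have hψ : ∀ g : G, ∃ σ : P11, g * z = z * g →
      ∀ a : L, ∃ b : L, g * (a : G) * g⁻¹ = b ∧ c.π b = σ * c.π a * σ⁻¹ := by
    intro g
    by_cases hg : g * z = z * g
    swap
    · exact ⟨1, fun h => absurd h hg⟩
    have hn := mem_normalizer_iff.1 (htN z hzK hz2 hz1 g hg)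
    let β : L →* L := MonoidHom.mk' (fun a => ⟨g * a * g⁻¹, (hn a).1 a.2⟩) fun a b =>
      Subtype.ext (by simp [mul_assoc])
    have hβz : β c.z = c.z := Subtype.ext (mul_inv_eq_iff_eq_mul.2 hg)
    let f : ↥(alternatingGroup (Fin 11)) → ↥(alternatingGroup (Fin 11)) := fun p =>
      ⟨c.π (β (c.exists_lift p.2).choose), c.π_mem _⟩
    have hf : ∀ a : L, ∀ p : ↥(alternatingGroup (Fin 11)), c.π a = (p : P11) →
        (f p : P11) = c.π (β a) := by
      intro a p hp
      rcases c.lift_cases ((c.exists_lift p.2).choose_spec.trans hp.symm) with e | e <;>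
        simp only [f, e]
      rw [map_mul, hβz, map_mul, c.π_z, mul_one]
    let F : ↥(alternatingGroup (Fin 11)) →* ↥(alternatingGroup (Fin 11)) :=
      MonoidHom.mk' f fun p q => by
        obtain ⟨a, ha⟩ := c.exists_lift p.2
        obtain ⟨b, hb⟩ := c.exists_lift q.2
        apply Subtype.ext
        rw [hf (a * b) (p * q) (by rw [map_mul, ha, hb]; rfl), map_mul, map_mul, ← hf a p ha,
          ← hf b q hb]
        rfl
    have hFinj : Function.Injective F := by
      rw [injective_iff_map_eq_one]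
      intro p hp
      obtain ⟨a, ha⟩ := c.exists_lift p.2
      have h1 : c.π (β a) = 1 := (hf a p ha).symm.trans (congrArg Subtype.val hp)
      have h2 : a = 1 ∨ a = c.z := by
        rcases (c.ker _).1 h1 with e | e
        · exact Or.inl (Subtype.ext (conj_eq_one_iff.1 (congrArg Subtype.val e)))
        · refine Or.inr (Subtype.ext ((MulAut.conj g).injective ?_))
          show g * (a : G) * g⁻¹ = g * (c.z : G) * g⁻¹
          rw [show g * (a : G) * g⁻¹ = c.z from congrArg Subtype.val e,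
            mul_inv_eq_iff_eq_mul.2 hg]
      exact Subtype.ext (ha.symm.trans ((c.ker a).2 h2))
    let α : MulAut ↥(alternatingGroup (Fin 11)) :=
      MulEquiv.ofBijective F (Finite.injective_iff_bijective.1 hFinj)
    obtain ⟨σ, hσ⟩ := (S2119.result 11 (by norm_num) (by norm_num)).2 α
    refine ⟨σ, fun _ a => ⟨β a, rfl, ?_⟩⟩
    rw [← hf a ⟨c.π a, c.π_mem a⟩ rfl]
    have := congrArg Subtype.val (DFunLike.congr_fun hσ ⟨c.π a, c.π_mem a⟩)
    simp only [MulAut.conjNormal_apply] at this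
    exact this.symm
  choose ψ hψ using hψ
  have huniq : ∀ g : G, g * z * g⁻¹ ∈ K → g * z * g⁻¹ = z := by
    intro g hj
    set j := g * z * g⁻¹ with hjdef
    have hj2 : j * j = 1 := by
      rw [hjdef, show g * z * g⁻¹ * (g * z * g⁻¹) = g * (z * z) * g⁻¹ by group, hz2]; group
    have hj1 : j ≠ 1 := fun h => hz1 (conj_eq_one_iff.1 h)
    have hcz : ∀ h : G, h * z = z * h → g * h * g⁻¹ * j = j * (g * h * g⁻¹) := fun h hh => by
      rw [hjdef]
      calc g * h * g⁻¹ * (g * z * g⁻¹) = g * (h * z) * g⁻¹ := by group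
        _ = _ := by rw [hh]; group
    set L' := L.map (MulAut.conj g).toMonoidHom with hL'def
    have hzn : ∀ h : G, h * z = z * h → h ∈ normalizer (L : Set G) := htN z hzK hz2 hz1
    have h2 : L' ≤ normalizer (L : Set G) := by
      rintro _ ⟨y, hy, rfl⟩
      exact htN j hj hj2 hj1 _ (hcz y (hnz y (le_normalizer hy)))
    have h1 : L ≤ normalizer (L' : Set G) := by
      intro y hy
      have hyj : j * y = y * j := (hmemK j).1 hj ⟨y, hy⟩
      have hmem := hzn (g⁻¹ * y * g) (by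
        rw [hjdef] at hyj
        calc g⁻¹ * y * g * z = g⁻¹ * (y * (g * z * g⁻¹)) * g := by group
          _ = _ := by rw [← hyj]; group)
      refine mem_normalizer_iff.2 fun w => ?_
      rw [hL'def, mem_map_equiv, mem_map_equiv, MulAut.conj_symm_apply, MulAut.conj_symm_apply,
        mem_normalizer_iff.1 hmem (g⁻¹ * w * g),
        show g⁻¹ * y * g * (g⁻¹ * w * g) * (g⁻¹ * y * g)⁻¹ = g⁻¹ * (y * w * y⁻¹) * g by group]
    rcases Co3Rec.Std.le_of_quasi hq h1 h2 with h | h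
    · have he : L = L' := eq_of_le_of_card_ge h
        (by rw [hL'def, card_map_of_injective (MulAut.conj g).injective])
      have hgN : g ∈ normalizer (L : Set G) := by
        refine mem_normalizer_iff.2 fun w => ⟨fun hw => ?_, fun hw => ?_⟩
        · rw [he]; exact ⟨w, hw, rfl⟩
        · rw [he, hL'def] at hw
          obtain ⟨v, hv, hvw⟩ := hw
          exact (MulAut.conj g).injective hvw ▸ hv
      rw [hjdef, hnz g hgN, mul_inv_cancel_right]
    · exfalso
      refine hcomm g (fun he => ?_) h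
      rw [hL'def, he, commutator_eq_bot_iff_le_centralizer] at h
      obtain ⟨a, ha⟩ := c.exists_lift (p := p3 0 1 2) (mem_alternatingGroup.2 (by decide))
      obtain ⟨b, hb⟩ := c.exists_lift (p := p3 0 1 3) (mem_alternatingGroup.2 (by decide))
      have e : a * b = b * a := Subtype.ext (mem_centralizer_iff.1 (h b.2) a a.2)
      have e' := congrArg c.π e
      rw [map_mul, map_mul, ha, hb] at e'
      exact absurd e' (show ¬ p3 0 1 2 * p3 0 1 3 = p3 0 1 3 * p3 0 1 2 by decide)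
  let S : Base c G :=
    { φ := L.subtype
      inj := L.subtype_injective
      K := K
      mem_K := hmemK
      ψ := ψ
      spec := hψ
      small := fun k hk h2 h1 g hg => hnz g (htN k hk h2 h1 g hg)
      uniq := huniq }
  have hcen : Subgroup.center G = ⊥ :=
    (inferInstance : (Subgroup.center G).Normal).eq_bot_or_eq_top.resolve_right fun h =>
      hG ⟨⟨fun a b => mem_center_iff.1 (h.symm ▸ mem_top b) a⟩⟩
  have hordz : orderOf z = 2 := orderOf_eq_prime (by rw [pow_two, hz2]) hz1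
  have hodd : Cfsg.oddCore G = ⊥ := by
    by_contra hne
    have := (IsSimpleGroup.eq_bot_or_eq_top_of_normal (Cfsg.oddCore G) inferInstance).resolve_left hne
    have h2 : ¬ 2 ∣ Nat.card (Cfsg.oddCore G) := Cfsg.Agent.Core.not_dvd_card_pPrimeCore
    rw [this, card_top, ← hordz] at h2
    exact h2 (orderOf_dvd_natCard z)
  obtain ⟨g, hgc, hgne⟩ : ∃ g : G, Commute z (g * z * g⁻¹) ∧ g * z * g⁻¹ ≠ z := by
    by_contra hcon
    push Not at hcon
    refine hz1 ((eq_bot_iff_forall _).1 hcen z (mem_center_iff.2 fun g => ?_))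
    have := Invol.zstar (show Cfsg.IsIsolatedInvolution z from ⟨hordz, hcon⟩) g
    rw [hodd, Subgroup.mem_bot, mul_inv_eq_one, mul_inv_eq_iff_eq_mul] at this
    exact this.symm
  exact ⟨c, S, g, hgc.eq.symm, hgne⟩

end Cfsg.Agent.StdLy
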