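import Cfsg.Agent.StdLy.KPart
import Mathlib.GroupTheory.Transfer
import Mathlib.GroupTheory.Perm.Cycle.Type

/-!
The centraliser of the involution is the cover times an odd group, by transfer.
-/

set_option autoImplicit false
set_option maxRecDepth 100000

set_option linter.style.haveILetI false

namespace Cfsg.Agent.StdLy

open Equiv Equiv.Perm Subgroup
open scoped commutatorElement

/-- An involution none of whose conjugates in a subgroup of odd index lies in the kernel of a sign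
map is outside the derived group. -/
theorem transfer_absurd {G : Type*} [Group G] [Finite G] [IsSimpleGroup G]
    (hG : ¬ IsMulCommutative G) (H : Subgroup G) (hidx : ¬ 2 ∣ H.index) (ϕ : H →* ℤˣ) {e : G}
    (he : e * e = 1) (hval : ∀ g : G, ∀ h : g⁻¹ * e * g ∈ H, ϕ ⟨_, h⟩ = -1) : False := by
  classical
  have : Fact (Nat.Prime 2) := ⟨Nat.prime_two⟩
  have htr : MonoidHom.transfer ϕ e = 1 := by
    rcases (MonoidHom.normal_ker (MonoidHom.transfer ϕ)).eq_bot_or_eq_top with h | h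
    · exact absurd ⟨⟨fun a b => (MonoidHom.ker_eq_bot_iff _).1 h (by rw [map_mul, map_mul, mul_comm])⟩⟩ hG
    · exact MonoidHom.mem_ker.1 (h ▸ Subgroup.mem_top e)
  letI : Fintype (Quotient (MulAction.orbitRel (zpowers e) (G ⧸ H))) := Fintype.ofFinite _
  rw [MonoidHom.transfer_eq_prod_quotient_orbitRel_zpowers_quot] at htr
  have hfac : ∀ q : Quotient (MulAction.orbitRel (zpowers e) (G ⧸ H)),
      ϕ ⟨q.out.out⁻¹ * e ^ Function.minimalPeriod (e • ·) q.out * q.out.out,
        QuotientGroup.out_conj_pow_minimalPeriod_mem H e q.out⟩ =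
      if e • q.out = q.out then -1 else 1 := by
    intro q
    have hmem := QuotientGroup.out_conj_pow_minimalPeriod_mem H e q.out
    by_cases hf : e • q.out = q.out
    · rw [if_pos hf]
      simp only [Function.minimalPeriod_eq_one_iff_isFixedPt.2 hf, pow_one] at hmem ⊢
      exact hval _ hmem
    · rw [if_neg hf]
      have hd : Function.minimalPeriod (e • ·) q.out ∣ 2 := Function.IsPeriodicPt.minimalPeriod_dvd (by
        show (e • ·)^[2] q.out = q.out
        rw [smul_iterate, pow_two, he]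
        exact one_smul G _)
      rcases (Nat.dvd_prime Nat.prime_two).1 hd with h | h
      · exact absurd (Function.minimalPeriod_eq_one_iff_isFixedPt.1 h) hf
      · simp only [h, pow_two, he, mul_one, inv_mul_cancel]
        exact map_one ϕ
  rw [Finset.prod_congr rfl fun q _ => hfac q, Finset.prod_ite, Finset.prod_const_one, mul_one,
    Finset.prod_const] at htr
  have hcard : (Finset.univ.filter fun q : Quotient (MulAction.orbitRel (zpowers e) (G ⧸ H)) =>
      e • q.out = q.out).card = Nat.card (MulAction.fixedPoints (zpowers e) (G ⧸ H)) := by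
    rw [← Fintype.card_subtype, ← Nat.card_eq_fintype_card]
    have hfixed : ∀ x : G ⧸ H, e • x = x → ∀ k : zpowers e, k • x = x := by
      rintro x hx ⟨k, i, rfl⟩
      exact MulAction.mem_stabilizer_iff.1
        (Subgroup.zpow_mem _ (MulAction.mem_stabilizer_iff.2 hx) i)
    refine Nat.card_congr (Equiv.ofBijective
      (fun q => ⟨q.1.out, hfixed _ q.2⟩) ⟨fun q q' h => ?_, fun x => ?_⟩)
    · exact Subtype.ext (Quotient.out_inj.1 (congrArg Subtype.val h))
    · obtain ⟨k, hk⟩ := MulAction.orbitRel_apply.1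
        (Quotient.mk_out (s := MulAction.orbitRel (zpowers e) (G ⧸ H)) x.1)
      have hout : (Quotient.mk (MulAction.orbitRel (zpowers e) (G ⧸ H)) x.1).out = x.1 :=
        hk.symm.trans (x.2 k)
      exact ⟨⟨_, (congrArg (e • ·) hout).trans ((x.2 ⟨e, mem_zpowers e⟩).trans hout.symm)⟩,
        Subtype.ext hout⟩
  obtain ⟨i, -, hi⟩ := (Nat.dvd_prime_pow Nat.prime_two).1
    (show orderOf e ∣ 2 ^ 1 by rw [pow_one]; exact orderOf_dvd_of_pow_eq_one (by rw [pow_two, he]))
  have hep : IsPGroup 2 (zpowers e) := IsPGroup.of_card (n := i) (by rw [Nat.card_zpowers, hi])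
  have hmod := hep.card_modEq_card_fixedPoints (G ⧸ H)
  rw [← hcard, ← Subgroup.index_eq_card, Nat.ModEq, Nat.two_dvd_ne_zero.1 hidx] at hmod
  rw [(Nat.odd_iff.2 hmod.symm).neg_one_pow] at htr
  exact absurd htr (by decide)

namespace Base

variable {M : Type*} [Group M] {c : Cov M} {G : Type*} [Group G]

/-- A configuration with a commuting conjugate, and the odd part of its second factor. -/
structure Full (S : Base c G) where
  g : G
  comm : g * S.z * g⁻¹ * S.z = S.z * (g * S.z * g⁻¹)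
  ne : g * S.z * g⁻¹ ≠ S.z
  X : Subgroup G
  mem_X : ∀ k, k ∈ X ↔ k ∈ S.K ∧ Odd (orderOf k)
  X_odd : Odd (Nat.card X)
  split : ∀ k ∈ S.K, k ∈ X ∨ k * S.z ∈ X

variable {S : Base c G} [Finite G]

theorem exists_full (S : Base c G) {g : G}
    (hc : g * S.z * g⁻¹ * S.z = S.z * (g * S.z * g⁻¹)) (hne : g * S.z * g⁻¹ ≠ S.z) :
    Nonempty (Full S) := by
  classical
  have hp := pair_conj S hc hne
  have : Fact (Nat.Prime 2) := ⟨Nat.prime_two⟩
  have hodd : Odd (Nat.card (S.K ⊓ (S.conj g).K : Subgroup G)) := by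
    by_contra h
    rw [Nat.not_odd_iff_even, even_iff_two_dvd] at h
    obtain ⟨⟨x, hx⟩, hx2⟩ := exists_prime_orderOf_dvd_card' 2 h
    rw [Subgroup.orderOf_mk] at hx2
    have hxx : x * x = 1 := by rw [← pow_two, ← hx2, pow_orderOf_eq_one]
    rcases hp.involution_K hx.1 hxx with e | e
    · rw [e, orderOf_one] at hx2; omega
    · exact hp.notK' (e ▸ hx.2)
  have hmem : ∀ k, k ∈ S.K ⊓ (S.conj g).K ↔ k ∈ S.K ∧ Odd (orderOf k) := by
    refine fun k => ⟨fun hk => ⟨hk.1, ?_⟩, fun hk => ⟨hk.1, hp.odd_mem hk.1 hk.2 (pow_orderOf_eq_one k)⟩⟩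
    rw [← Subgroup.orderOf_mk k hk]
    exact hodd.of_dvd_nat (orderOf_dvd_natCard _)
  refine ⟨⟨g, hc, hne, _, hmem, hodd, fun k hk => ?_⟩⟩
  obtain ⟨j, r, hr, hjr⟩ := Nat.exists_eq_two_pow_mul_odd (orderOf_pos k).ne'
  have hk2 : (k ^ r) ^ 2 ^ j = 1 := by rw [← pow_mul, mul_comm, ← hjr, pow_orderOf_eq_one]
  rcases hp.two_power j (pow_mem hk r) hk2 with e | e
  · exact Or.inl ((hmem k).2 ⟨hk, hr.of_dvd_nat (orderOf_dvd_of_pow_eq_one e)⟩)
  · refine Or.inr ((hmem _).2 ⟨mul_mem hk S.z_mem_K, hr.of_dvd_nat (orderOf_dvd_of_pow_eq_one ?_)⟩)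
    obtain ⟨i, hi⟩ := hr
    rw [(show Commute k S.z from S.K_comm_z hk).mul_pow, e, hi, pow_succ' S.z, pow_mul, pow_two S.z,
      S.z_sq, one_pow, mul_one, S.z_sq]

namespace Full

variable (F : Full S)

theorem pair : Pair S (S.conj F.g) := pair_conj S F.comm F.ne

theorem X_le {k : G} (hk : k ∈ F.X) : k ∈ S.K := ((F.mem_X k).1 hk).1

theorem conj_X {h : G} (hc : h * S.z * h⁻¹ * S.z = S.z * (h * S.z * h⁻¹)) {k : G} (hk : k ∈ F.X) :
    h * k * h⁻¹ ∈ F.X := by
  obtain ⟨hkK, hko⟩ := (F.mem_X k).1 hk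
  have ho : orderOf (h * k * h⁻¹) = orderOf k := (MulAut.conj h).orderOf_eq k
  refine (F.mem_X _).2 ⟨?_, ho ▸ hko⟩
  have hK : h * k * h⁻¹ ∈ (S.conj h).K := by
    rw [conj_mem_K, show h⁻¹ * (h * k * h⁻¹) * h = k by group]
    exact hkK
  by_cases hne : h * S.z * h⁻¹ = S.z
  · exact (conj_K_of_comm S (mul_inv_eq_iff_eq_mul.1 hne) _).1 hK
  · exact (pair_conj S hc hne).symm.odd_mem hK (ho ▸ hko) (pow_orderOf_eq_one _)

theorem mem_normalizer_X {h : G} (hc : h * S.z * h⁻¹ * S.z = S.z * (h * S.z * h⁻¹)) :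
    h ∈ normalizer (F.X : Set G) := by
  have key := fun k => F.conj_X hc (k := k)
  refine mem_normalizer_iff.2 fun k => ⟨key k, fun hk => ?_⟩
  have hle : F.X.map (MulAut.conj h).toMonoidHom ≤ F.X := by
    rintro _ ⟨w, hw, rfl⟩
    exact key w hw
  have heq := eq_of_le_of_card_ge hle (card_map_of_injective (MulAut.conj h).injective).ge
  rw [← heq] at hk
  obtain ⟨w, hw, hwk⟩ := hk
  exact (MulAut.conj h).injective hwk ▸ hw

include F in
theorem conj_mem_range {h : G} (hc : h * S.z * h⁻¹ * S.z = S.z * (h * S.z * h⁻¹)) :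
    ∃ a, S.φ a = h * S.z * h⁻¹ := by
  by_cases hne : h * S.z * h⁻¹ = S.z
  · exact ⟨c.z, hne.symm⟩
  · obtain ⟨a, ha, -, -⟩ := (pair_conj S hc hne).exists_m
    exact ⟨a, by rw [ha, conj_z]⟩

include F in
/-- Non-central involutions of the cover are conjugates of the central one. -/
theorem exists_conj_invol {n : M} (h2 : n * n = 1) (hn : c.π n ≠ 1) :
    ∃ h : G, h * S.z * h⁻¹ = S.φ n := by
  obtain ⟨m, hm, hm2, hπ⟩ := F.pair.exists_m
  have hm1 : c.π m ≠ 1 := fun e => by
    have := F.pair.type_eight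
    rw [← hπ, e, Equiv.Perm.support_one] at this
    simp at this
  obtain ⟨a, ha⟩ := c.isConj_invol hm2 hm1 h2 hn
  refine ⟨S.φ a * F.g, ?_⟩
  rw [← ha, map_mul, map_mul, map_inv, hm, conj_z]
  group

include F in
/-- No conjugate other than the involution commutes with a Sylow subgroup of the cover. -/
theorem no_central (Q : Sylow 2 M) {h : G} (hne : h * S.z * h⁻¹ ≠ S.z)
    (hc : h * S.z * h⁻¹ * S.z = S.z * (h * S.z * h⁻¹))
    (hQ : ∀ a ∈ (Q : Subgroup M), h * S.z * h⁻¹ * S.φ a = S.φ a * (h * S.z * h⁻¹)) : False := by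
  have : Finite M := Finite.of_injective S.φ S.inj
  have : Fact (Nat.Prime 2) := ⟨Nat.prime_two⟩
  have hp := pair_conj S hc hne
  obtain ⟨m, hm, hm2, hπ⟩ := hp.exists_m
  have hle : (Q : Subgroup M) ≤ centralizer ({m} : Set M) := fun a ha =>
    mem_centralizer_singleton_iff.2 (S.inj (by
      rw [map_mul, map_mul, hm, conj_z]
      exact (hQ a ha).symm))
  refine Q.not_dvd_index ((c.index_centralizer_even hm2 ?_).trans (index_dvd_of_le hle))
  rw [hπ]
  exact fun e => by have := hp.type_eight; simp [e] at this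

include F in
/-- The centraliser of the involution contains a Sylow subgroup. -/
theorem odd_index : ¬ 2 ∣ (centralizer ({S.z} : Set G)).index := by
  classical
  have : Finite M := Finite.of_injective S.φ S.inj
  have : Fact (Nat.Prime 2) := ⟨Nat.prime_two⟩
  intro hdvd
  set C := centralizer ({S.z} : Set G) with hC
  let f : M →* C := S.φ.codRestrict C fun m => mem_centralizer_singleton_iff.2 (S.φ_comm_z m)
  obtain ⟨Q⟩ : Nonempty (Sylow 2 M) := inferInstance
  obtain ⟨P, hP⟩ := (Q.isPGroup'.map f).exists_le_sylow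
  set P0 : Subgroup G := (P : Subgroup C).map C.subtype with hP0
  obtain ⟨n, hn⟩ := IsPGroup.iff_card.1 P.isPGroup'
  have hn0 : Nat.card P0 = 2 ^ n := by
    rw [hP0, Subgroup.card_map_of_injective C.subtype_injective, hn]
  have hG : 2 ^ (n + 1) ∣ Nat.card G := by
    rw [← C.card_mul_index, pow_succ]
    exact mul_dvd_mul (hn ▸ Subgroup.card_subgroup_dvd_card (P : Subgroup C)) hdvd
  obtain ⟨g, hg, hgC⟩ : ∃ g ∈ normalizer (P0 : Set G), g ∉ C := by
    by_contra hcon
    push Not at hcon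
    have h1 := Sylow.prime_dvd_card_quotient_normalizer hG hn0
    have h2 := Subgroup.card_eq_card_quotient_mul_card_subgroup
      (P0.comap (normalizer (P0 : Set G)).subtype)
    have h3 : Nat.card (P0.comap (normalizer (P0 : Set G)).subtype) = 2 ^ n := by
      rw [← hn0]
      exact Nat.card_congr (Subgroup.subgroupOfEquivOfLe le_normalizer).toEquiv
    rw [h3] at h2
    have h4 : 2 ^ (n + 1) ∣ Nat.card C := by
      refine dvd_trans ?_ (Subgroup.card_dvd_of_le hcon)
      rw [h2, pow_succ']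
      exact mul_dvd_mul_right h1 _
    have h5 := P.pow_dvd_card_of_pow_dvd_card h4
    rw [hn, Nat.pow_dvd_pow_iff_le_right (by norm_num)] at h5
    omega
  have hmemP : ∀ x ∈ (Q : Subgroup M), S.φ x ∈ P0 := fun x hx => ⟨f x, hP ⟨x, hx, rfl⟩, rfl⟩
  have hsub : ∀ p ∈ P0, p * S.z = S.z * p := by
    rintro _ ⟨p, -, rfl⟩
    exact mem_centralizer_singleton_iff.1 p.2
  have hzP : S.z ∈ P0 := by
    refine hmemP c.z ?_
    have hz : IsPGroup 2 (zpowers c.z) := IsPGroup.of_card (n := 1) (by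
      rw [Nat.card_zpowers, pow_one]
      exact orderOf_eq_prime (by rw [pow_two, c.z_sq]) c.z_ne)
    have : (zpowers c.z).Normal := ⟨fun a ha x => by
      obtain ⟨i, rfl⟩ := ha
      rw [((show Commute x c.z from c.z_comm x).zpow_right i).eq, mul_inv_cancel_right]
      exact zpow_mem (mem_zpowers _) i⟩
    exact (Q.3 (Q.isPGroup'.to_sup_of_normal_right hz) le_sup_left).le
      (mem_sup_right (mem_zpowers _))
  have hyP : g * S.z * g⁻¹ ∈ P0 := (mem_normalizer_iff.1 hg _).1 hzP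
  refine F.no_central Q (h := g)
    (fun e => hgC (mem_centralizer_singleton_iff.2 (mul_inv_eq_iff_eq_mul.1 e))) (hsub _ hyP)
    fun a ha => ?_
  have h1 : g⁻¹ * S.φ a * g ∈ P0 := (mem_normalizer_iff.1 hg _).2 (by
    rw [show g * (g⁻¹ * S.φ a * g) * g⁻¹ = S.φ a by group]; exact hmemP a ha)
  calc g * S.z * g⁻¹ * S.φ a = g * (S.z * (g⁻¹ * S.φ a * g)) * g⁻¹ := by group
    _ = _ := by rw [← hsub _ h1]; group

include F in
/-- An involution inducing an even permutation is a conjugate of the involution. -/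
theorem even_invol {e : G} (he : e * S.z = S.z * e) (he2 : e * e = 1) (he1 : e ≠ 1)
    (hev : S.ψ e ∈ alternatingGroup (Fin 11)) : ∃ h : G, h * S.z * h⁻¹ = e := by
  obtain ⟨a, k, hk, hak, -⟩ := S.exists_split he hev
  have hsq : S.φ (a * a) * (k * k) = 1 := by
    rw [map_mul, ← he2, hak]
    calc S.φ a * S.φ a * (k * k) = S.φ a * (S.φ a * k) * k := by group
      _ = S.φ a * (k * S.φ a) * k := by rw [S.K_comm hk]
      _ = _ := by group
  have haa : a * a = 1 := by
    rcases S.φ_mem_K (a := a * a) (by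
      rw [eq_inv_of_mul_eq_one_left hsq]
      exact inv_mem (mul_mem hk hk)) with e' | e'
    · exact e'
    · exfalso
      refine F.pair.no_four hk ?_
      rw [eq_inv_of_mul_eq_one_right hsq, e']
      exact inv_eq_of_mul_eq_one_right S.z_sq
  rw [haa, map_one, one_mul] at hsq
  obtain ⟨b, hb⟩ : ∃ b, S.φ b = e := by
    rcases F.pair.involution_K hk hsq with rfl | rfl
    · exact ⟨a, by rw [hak, mul_one]⟩
    · exact ⟨a * c.z, by rw [hak, map_mul]; rfl⟩
  have hb2 : b * b = 1 := S.inj (by rw [map_mul, hb, he2, map_one])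
  by_cases hπ : c.π b = 1
  · rcases (c.ker b).1 hπ with r | r
    · exact absurd (by rw [← hb, r, map_one]) he1
    · exact ⟨1, by rw [← hb, r]; simp [Base.z]⟩
  · rw [← hb]
    exact F.exists_conj_invol hb2 hπ

include F in
/-- The centraliser induces only inner automorphisms. -/
theorem ψ_even [IsSimpleGroup G] (hG : ¬ IsMulCommutative G) {h : G} (hh : h * S.z = S.z * h) :
    S.ψ h ∈ alternatingGroup (Fin 11) := by
  classical
  by_contra hodd
  rw [mem_alternatingGroup] at hodd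
  have hsg := (Int.units_eq_one_or _).resolve_left hodd
  obtain ⟨a, ha⟩ := c.exists_lift (p := (S.ψ h)⁻¹ * swap 0 1) (mem_alternatingGroup.2 (by
    rw [Perm.sign_mul, map_inv, hsg, sign_swap (by decide)]; decide))
  set h0 := h * S.φ a with hh0
  have hh0z : h0 * S.z = S.z * h0 := Commute.mul_left hh (S.φ_comm_z a)
  have hψ0 : S.ψ h0 = swap 0 1 := by
    rw [hh0, S.ψ_mul hh (S.φ_comm_z a), S.ψ_φ, ha, mul_inv_cancel_left]
  have hk : h0 * h0 ∈ S.K := S.mem_K_of_ψ (Commute.mul_left hh0z hh0z)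
    (by rw [S.ψ_mul hh0z hh0z, hψ0, swap_mul_self])
  obtain ⟨j, r, hr, hjr⟩ := Nat.exists_eq_two_pow_mul_odd (orderOf_pos (h0 * h0)).ne'
  set e0 := h0 ^ r with he0
  have he0z : e0 * S.z = S.z * e0 := Commute.pow_left hh0z r
  have hψe : S.ψ e0 = swap 0 1 := by
    obtain ⟨i, hi⟩ := hr
    have hii : S.ψ ((h0 * h0) ^ i) = 1 := S.ψ_K (pow_mem hk i)
    rw [he0, hi, pow_succ, pow_mul, pow_two, S.ψ_mul (Commute.pow_left (Commute.mul_left hh0z hh0z) i)
      hh0z, hii, one_mul, hψ0]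
  have he02 : e0 * e0 = 1 ∨ e0 * e0 = S.z := by
    rw [he0, ← (Commute.refl h0).mul_pow]
    exact F.pair.two_power j (pow_mem hk r) (by rw [← pow_mul, mul_comm r, ← hjr, pow_orderOf_eq_one])
  obtain ⟨p, hp⟩ := c.exists_lift (p := p3 2 3 5) (mem_alternatingGroup.2 (by decide))
  obtain ⟨q, hq⟩ := c.exists_lift (p := p3 2 3 4) (mem_alternatingGroup.2 (by decide))
  have hu : c.π ⁅p, q⁆ = p2 2 3 4 5 := by rw [map_commutatorElement, hp, hq]; decide
  have hu2 : S.φ ⁅p, q⁆ * S.φ ⁅p, q⁆ = S.z := by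
    rw [← map_mul, c.sq_two _ (by rw [hu]; decide) (by rw [hu]; decide)]
    rfl
  have hcomm : e0 * S.φ ⁅p, q⁆ = S.φ ⁅p, q⁆ * e0 :=
    S.comm_of_ψ he0z (by rw [hψe, hp]; decide) (by rw [hψe, hq]; decide)
  obtain ⟨e, hez, he2, hes⟩ : ∃ e, e * S.z = S.z * e ∧ e * e = 1 ∧ Perm.sign (S.ψ e) = -1 := by
    rcases he02 with r2 | r2
    · exact ⟨e0, he0z, r2, by rw [hψe]; decide⟩
    · refine ⟨e0 * S.φ ⁅p, q⁆, Commute.mul_left he0z (S.φ_comm_z _), ?_, ?_⟩
      · rw [(show Commute (S.φ ⁅p, q⁆) e0 from hcomm.symm).mul_mul_mul_comm, r2, hu2, S.z_sq]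
      · rw [S.ψ_mul he0z (S.φ_comm_z _), hψe, S.ψ_φ, hu]; decide
  let ϕ : centralizer ({S.z} : Set G) →* ℤˣ := MonoidHom.mk' (fun x => Perm.sign (S.ψ x))
    fun x y => by
      rw [Subgroup.coe_mul, S.ψ_mul (mem_centralizer_singleton_iff.1 x.2)
        (mem_centralizer_singleton_iff.1 y.2), map_mul]
  refine transfer_absurd hG _ F.odd_index ϕ he2 fun x hx => ?_
  show Perm.sign (S.ψ (x⁻¹ * e * x)) = -1
  refine (Int.units_eq_one_or _).resolve_left fun h1 => ?_
  have hxz := mem_centralizer_singleton_iff.1 hx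
  have he1 : e ≠ 1 := fun e1 => by
    rw [e1, S.ψ_one, Perm.sign_one] at hes
    exact absurd hes (by decide)
  obtain ⟨y, hy⟩ := F.even_invol hxz
    (by rw [show x⁻¹ * e * x * (x⁻¹ * e * x) = x⁻¹ * (e * e) * x by group, he2]; group)
    (fun e1 => he1 (by rw [show e = x * (x⁻¹ * e * x) * x⁻¹ by group, e1]; group))
    (mem_alternatingGroup.2 h1)
  have hy' : x * y * S.z * (x * y)⁻¹ = e := by
    rw [show x * y * S.z * (x * y)⁻¹ = x * (y * S.z * y⁻¹) * x⁻¹ by group, hy]; group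
  obtain ⟨a', ha'⟩ := F.conj_mem_range (h := x * y) (by rw [hy']; exact hez)
  rw [hy'] at ha'
  rw [← ha', S.ψ_φ, mem_alternatingGroup.1 (c.π_mem a')] at hes
  exact absurd hes (by decide)

/-- The centraliser is the cover times the odd part. -/
theorem decomp [IsSimpleGroup G] (hG : ¬ IsMulCommutative G) {h : G} (hh : h * S.z = S.z * h) :
    ∃ a, ∃ x ∈ F.X, h = S.φ a * x := by
  obtain ⟨a, k, hk, rfl, -⟩ := S.exists_split hh (F.ψ_even hG hh)
  rcases F.split k hk with e | e
  · exact ⟨a, k, e, rfl⟩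
  · refine ⟨a * c.z, k * S.z, e, ?_⟩
    rw [map_mul, S.K_comm_z hk]
    show S.φ a * k = S.φ a * S.z * (S.z * k)
    rw [mul_assoc (S.φ a), ← mul_assoc S.z, S.z_sq, one_mul]

end Full

end Base

end Cfsg.Agent.StdLy
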