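import Cfsg.Agent.StdLy.Perms
import Cfsg.Agent.LyRec.Cover

/-!
Elementary facts about a non-split double cover of the alternating group of degree eleven.
-/

set_option autoImplicit false
set_option maxRecDepth 100000

namespace Cfsg.Agent.StdLy

open Equiv Equiv.Perm
open scoped commutatorElement

/-- A double cover of the alternating group of degree eleven in which double transpositions lift to
elements of order four. -/
structure Cov (M : Type*) [Group M] where
  π : M →* P11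
  range : π.range = alternatingGroup (Fin 11)
  z : M
  z_ne : z ≠ 1
  z_comm : ∀ a, a * z = z * a
  ker : ∀ a, π a = 1 ↔ a = 1 ∨ a = z
  sq_two : ∀ a, π a * π a = 1 → (π a).support.card = 4 → a * a = z

open AltMult ShortPres in
theorem exists_cov {M : Type*} [Group M] [Finite M]
    (h : Cfsg.IsNonsplitDoubleCover M (alternatingGroup (Fin 11))) : Nonempty (Cov M) := by
  classical
  obtain ⟨A⟩ := LyRec.exists_cov11 h
  let ix : Rest (0 : Fin 11) 1 → ℕ := fun x => x.1.val - 2
  have hge : ∀ x : Rest (0 : Fin 11) 1, 2 ≤ x.1.val := fun x => by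
    have h1 := x.2.1; have h2 := x.2.2
    simp only [ne_eq, Fin.ext_iff, Fin.val_zero, Fin.val_one] at h1 h2
    omega
  have hix : ∀ x, ix x < 9 := fun x => by have := hge x; have := x.1.isLt; simp only [ix]; omega
  have hij : ∀ x y, x ≠ y → ix x ≠ ix y := fun x y hxy e => hxy (Subtype.ext (Fin.ext (by
    have := hge x; have := hge y; simp only [ix] at e; omega)))
  let L : LyLocal.Lifts (0 : Fin 11) 1 M :=
    { E := fun x => A.E (ix x)
      t := A.z
      t_ne := A.z_ne
      t_sq := A.z_sq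
      t_comm := fun x => (A.z_comm _).symm
      cube := fun x => A.cube _ (hix x)
      prod_sq := fun x y hxy => A.prod_sq _ _ (hix x) (hix y) (hij x y hxy) }
  have htop : L.grp = ⊤ := by
    rw [eq_top_iff, ← A.gen, Subgroup.closure_le]
    rintro _ ⟨i, hi, rfl⟩
    have hi' : i < 9 := hi
    exact L.E_mem ⟨⟨i + 2, by omega⟩,
      ⟨fun e => by simp [Fin.ext_iff] at e, fun e => by simp [Fin.ext_iff] at e⟩⟩
  obtain ⟨p, hp, hk, hE⟩ := L.exists_proj (by simp) (by decide)
  let ι : M →* L.grp := MonoidHom.mk' (fun a => ⟨a, htop ▸ Subgroup.mem_top a⟩) fun a b => rfl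
  let π : M →* P11 := (alternatingGroup (Fin 11)).subtype.comp (p.comp ι)
  have hπE : ∀ x, π (L.E x) = cyc (0 : Fin 11) 1 x.1 := fun x => by
    show (p ⟨L.E x, _⟩ : P11) = _
    rw [hE x]
    rfl
  have hkπ : ∀ a, π a = 1 ↔ a = 1 ∨ a = A.z := fun a =>
    (OneMemClass.coe_eq_one).trans (hk (ι a))
  have hsq : ∀ g w : M, π w * π w = 1 → w * w = A.z → ∀ a, π a = π g * π w * (π g)⁻¹ →
      a * a = A.z := by
    intro g w _ hw a ha
    have : π (a * (g * w * g⁻¹)⁻¹) = 1 := by
      rw [map_mul, map_inv, map_mul, map_mul, map_inv, ha, mul_inv_cancel]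
    have hgg : g * w * g⁻¹ * (g * w * g⁻¹) = A.z := by
      calc g * w * g⁻¹ * (g * w * g⁻¹) = g * (w * w) * g⁻¹ := by group
        _ = A.z := by rw [hw, A.z_comm, mul_inv_cancel_right]
    rcases (hkπ _).1 this with e | e
    · rw [mul_inv_eq_one.1 e, hgg]
    · rw [mul_inv_eq_iff_eq_mul.1 e,
        (show Commute (g * w * g⁻¹) A.z from A.z_comm _).mul_mul_mul_comm, A.z_sq, one_mul, hgg]
  refine ⟨⟨π, ?_, A.z, A.z_ne, A.z_comm, hkπ, fun a ha h4 => ?_⟩⟩
  · refine le_antisymm ?_ fun q hq => ?_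
    · rintro _ ⟨a, rfl⟩
      exact (p (ι a)).2
    · obtain ⟨⟨a, _⟩, ha⟩ := hp ⟨q, hq⟩
      exact ⟨a, congrArg Subtype.val ha⟩
  · let x : Rest (0 : Fin 11) 1 := ⟨2, by decide⟩
    let y : Rest (0 : Fin 11) 1 := ⟨3, by decide⟩
    have hw : π (L.E x * L.E y) = cyc (0 : Fin 11) 1 2 * cyc (0 : Fin 11) 1 3 := by
      rw [map_mul, hπE, hπE]
    have hw2 : (π (L.E x * L.E y)) * π (L.E x * L.E y) = 1 := by rw [hw]; decide
    have hne : π (L.E x * L.E y) ≠ 1 := by rw [hw]; decide
    obtain ⟨g, hg, e⟩ := exists_conj_alt hw2 ha hne (by rw [h4, hw]; decide)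
    obtain ⟨⟨g, _⟩, hg'⟩ := hp ⟨g, hg⟩
    refine hsq g _ hw2 ?_ a ?_
    · rw [← pow_two]
      exact L.prod_sq x y (fun e => absurd (congrArg (fun r : Rest (0 : Fin 11) 1 => r.1) e) (by decide))
    · rw [show π g = _ from congrArg Subtype.val hg', e]

namespace Cov

variable {M : Type*} [Group M] (c : Cov M)

theorem π_z : c.π c.z = 1 := (c.ker _).2 (Or.inr rfl)

theorem z_sq : c.z * c.z = 1 := by
  rcases (c.ker _).1 (show c.π (c.z * c.z) = 1 by rw [map_mul, c.π_z, mul_one]) with e | e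
  · exact e
  · exact absurd (mul_eq_left.1 e) c.z_ne

theorem π_mem (a : M) : c.π a ∈ alternatingGroup (Fin 11) := c.range ▸ ⟨a, rfl⟩

theorem exists_lift {p : P11} (hp : p ∈ alternatingGroup (Fin 11)) : ∃ a, c.π a = p :=
  MonoidHom.mem_range.1 (c.range.symm ▸ hp)

theorem lift_cases {a b : M} (h : c.π a = c.π b) : a = b ∨ a = b * c.z := by
  rcases (c.ker (b⁻¹ * a)).1 (by rw [map_mul, map_inv, h, inv_mul_cancel]) with e | e
  · exact Or.inl (inv_mul_eq_one.1 e).symm
  · exact Or.inr (inv_mul_eq_iff_eq_mul.1 e)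

theorem mul_z_sq (a : M) : a * c.z * (a * c.z) = a * a := by
  rw [mul_assoc, ← mul_assoc c.z, ← c.z_comm a, mul_assoc a c.z, c.z_sq, mul_one]

theorem sq_eq {a b : M} (h : c.π a = c.π b) : a * a = b * b := by
  rcases c.lift_cases h with rfl | rfl
  · rfl
  · exact c.mul_z_sq b

/-- Elements commuting modulo the centre with two others commute with their commutator. -/
theorem comm_comm {a p q : M} (hp : c.π a * c.π p = c.π p * c.π a)
    (hq : c.π a * c.π q = c.π q * c.π a) : a * ⁅p, q⁆ = ⁅p, q⁆ * a := by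
  have key : ∀ {r}, c.π a * c.π r = c.π r * c.π a → a * r * a⁻¹ = r ∨ a * r * a⁻¹ = r * c.z :=
    fun {r} hr => c.lift_cases (by rw [map_mul, map_mul, map_inv, hr, mul_inv_cancel_right])
  have hz : ∀ r s : M, ⁅r * c.z, s⁆ = ⁅r, s⁆ ∧ ⁅r, s * c.z⁆ = ⁅r, s⁆ := by
    intro r s
    have e1 : ∀ w : M, c.z * w = w * c.z := fun w => (c.z_comm w).symm
    simp only [commutatorElement_def, mul_inv_rev]
    refine ⟨?_, ?_⟩
    · calc r * c.z * s * (c.z⁻¹ * r⁻¹) * s⁻¹ = r * (c.z * s) * c.z⁻¹ * r⁻¹ * s⁻¹ := by group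
        _ = _ := by rw [e1]; group
    · calc r * (s * c.z) * r⁻¹ * (c.z⁻¹ * s⁻¹) = r * s * (c.z * r⁻¹) * c.z⁻¹ * s⁻¹ := by group
        _ = _ := by rw [e1]; group
  have e : a * ⁅p, q⁆ * a⁻¹ = ⁅a * p * a⁻¹, a * q * a⁻¹⁆ := by
    simp only [commutatorElement_def]
    group
  rcases key hp with e1 | e1 <;> rcases key hq with e2 | e2 <;> rw [e1, e2] at e <;>
    (try simp only [(hz _ _).1, (hz _ _).2] at e) <;> exact mul_inv_eq_iff_eq_mul.1 e

/-- An element of odd order commutes exactly with what it commutes with modulo the centre. -/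
theorem comm_of_odd {a b : M} {n : ℕ} (hn : Odd n) (ha : a ^ n = 1)
    (h : c.π a * c.π b = c.π b * c.π a) : a * b = b * a := by
  rcases c.lift_cases (show c.π (a * b * a⁻¹) = c.π b by
    rw [map_mul, map_mul, map_inv, h, mul_inv_cancel_right]) with e | e
  · exact mul_inv_eq_iff_eq_mul.1 e
  · exfalso
    have hj : ∀ j : ℕ, a ^ j * b * (a ^ j)⁻¹ = b * c.z ^ j := by
      intro j
      induction j with
      | zero => simp
      | succ j ih =>
        rw [pow_succ' a, show a * a ^ j * b * (a * a ^ j)⁻¹ = a * (a ^ j * b * (a ^ j)⁻¹) * a⁻¹ by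
          group, ih, show a * (b * c.z ^ j) * a⁻¹ = a * b * a⁻¹ * (a * c.z ^ j * a⁻¹) by group, e,
          ((show Commute a c.z from c.z_comm a).pow_right j).eq, mul_inv_cancel_right,
          pow_succ' c.z, mul_assoc]
    obtain ⟨r, rfl⟩ := hn
    have := hj (2 * r + 1)
    rw [ha, one_mul, inv_one, mul_one, pow_succ, pow_mul, pow_two, c.z_sq, one_pow, one_mul] at this
    exact c.z_ne (mul_eq_left.1 this.symm)

/-- An element of order four anticommuting. -/
theorem anti {a m : M} (ha : a * a = c.z) (hm : m * m = 1) (h : a * m * (a * m) = 1) :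
    a * m * a⁻¹ = m * c.z := by
  have e : a * m * a = m⁻¹ := eq_inv_of_mul_eq_one_left (by rw [← h]; group)
  calc a * m * a⁻¹ = a * m * a * (a * a)⁻¹ := by group
    _ = m * c.z := by
      rw [e, ha, inv_eq_of_mul_eq_one_right hm, inv_eq_of_mul_eq_one_right c.z_sq]

theorem comm_of_sq {a m : M} (ha : a * a = c.z) (hm : m * m = 1) (h : a * m * (a * m) = c.z) :
    a * m = m * a := by
  have e : a * m * a = c.z * m⁻¹ := by rw [← h]; group
  have e2 : a * m * a⁻¹ = m := by
    calc a * m * a⁻¹ = a * m * a * (a * a)⁻¹ := by group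
      _ = c.z * m * c.z := by
        rw [e, ha, inv_eq_of_mul_eq_one_right hm, inv_eq_of_mul_eq_one_right c.z_sq]
      _ = m := by rw [mul_assoc, c.z_comm, ← mul_assoc, c.z_sq, one_mul]
  exact mul_inv_eq_iff_eq_mul.1 e2

/-- Elements of order three lift. -/
theorem exists_lift_three {p : P11} (h3 : p ^ 3 = 1) : ∃ a, c.π a = p ∧ a ^ 3 = 1 := by
  have hp : p ∈ alternatingGroup (Fin 11) := by
    rw [mem_alternatingGroup]
    have := congrArg sign h3
    rw [map_pow, map_one] at this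
    rcases Int.units_eq_one_or (sign p) with e | e
    · exact e
    · rw [e] at this
      exact absurd this (by decide)
  obtain ⟨a, ha⟩ := c.exists_lift hp
  refine ⟨a ^ 4, by rw [map_pow, ha, pow_succ, h3, one_mul], ?_⟩
  rw [← pow_mul, show 4 * 3 = 3 * 4 from rfl, pow_mul]
  rcases (c.ker (a ^ 3)).1 (by rw [map_pow, ha, h3]) with e | e
  · rw [e, one_pow]
  · rw [e, show (4 : ℕ) = 2 * 2 from rfl, pow_mul, pow_two c.z, c.z_sq, one_pow]

/-- Involutions on eight points lift to involutions. -/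
theorem sq_eight {a : M} (h2 : c.π a * c.π a = 1) (h8 : (c.π a).support.card = 8) :
    a * a = 1 := by
  have h1 : c.π a ≠ 1 := fun e => by simp [e] at h8
  obtain ⟨g, hg, hga⟩ := exists_conj_alt s0_sq h2 (by decide) (s0_card.trans h8.symm)
  obtain ⟨g, rfl⟩ := c.exists_lift hg
  obtain ⟨u, hu⟩ := c.exists_lift (p := p2 0 1 2 3) (mem_alternatingGroup.2 (by decide))
  obtain ⟨p, hp⟩ := c.exists_lift (p := p3 5 7 6) (mem_alternatingGroup.2 (by decide))
  obtain ⟨q, hq⟩ := c.exists_lift (p := p3 4 7 6) (mem_alternatingGroup.2 (by decide))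
  have hv : c.π ⁅p, q⁆ = p2 4 5 6 7 := by rw [map_commutatorElement, hp, hq]; decide
  have hcomm : u * ⁅p, q⁆ = ⁅p, q⁆ * u :=
    c.comm_comm (by rw [hu, hp]; decide) (by rw [hu, hq]; decide)
  have hu2 : u * u = c.z := c.sq_two u (by rw [hu]; decide) (by rw [hu]; decide)
  have hv2 : ⁅p, q⁆ * ⁅p, q⁆ = c.z := c.sq_two _ (by rw [hv]; decide) (by rw [hv]; decide)
  have hprod : u * ⁅p, q⁆ * (u * ⁅p, q⁆) = 1 := by
    rw [mul_assoc, ← mul_assoc ⁅p, q⁆ u, ← hcomm, mul_assoc u ⁅p, q⁆, ← mul_assoc u u, hu2, hv2,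
      c.z_sq]
  rw [c.sq_eq (b := g * (u * ⁅p, q⁆) * g⁻¹) (by
    rw [map_mul, map_mul, map_inv, map_mul, hu, hv]; exact hga.symm)]
  calc g * (u * ⁅p, q⁆) * g⁻¹ * (g * (u * ⁅p, q⁆) * g⁻¹)
      = g * (u * ⁅p, q⁆ * (u * ⁅p, q⁆)) * g⁻¹ := by group
    _ = 1 := by rw [hprod]; group

/-- Non-central involutions map to involutions on eight points. -/
theorem invol_card {a : M} (h2 : a * a = 1) (h : c.π a ≠ 1) :
    c.π a * c.π a = 1 ∧ (c.π a).support.card = 8 := by
  have e : c.π a * c.π a = 1 := by rw [← map_mul, h2, map_one]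
  refine ⟨e, (even_cases e (c.π_mem a) h).resolve_left fun h4 => ?_⟩
  exact c.z_ne ((c.sq_two a e h4).symm.trans h2)

theorem exists_u {m : M} (hm : m * m = 1) (hs : c.π m = s0) :
    ∃ u, c.π u = u0 ∧ u * m * u⁻¹ = m * c.z := by
  obtain ⟨u, hu⟩ := c.exists_lift (p := u0) (mem_alternatingGroup.2 (by decide))
  refine ⟨u, hu, c.anti (c.sq_two u (by rw [hu]; exact u0_sq) (by rw [hu]; exact u0_card)) hm
    (c.sq_eight ?_ ?_)⟩ <;> rw [map_mul, hu, hs] <;> decide

theorem exists_g0 {m : M} (hm : m * m = 1) (hs : c.π m = s0) :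
    ∃ g, c.π g = g0 ∧ g * m = m * g := by
  obtain ⟨u, hu, hum⟩ := c.exists_u hm hs
  obtain ⟨w, hw⟩ := c.exists_lift (p := w0) (mem_alternatingGroup.2 (by decide))
  have hwm : w * m * w⁻¹ = m * c.z :=
    c.anti (c.sq_two w (by rw [hw]; exact w0_sq) (by rw [hw]; exact w0_card)) hm
      (c.sq_eight (by rw [map_mul, hw, hs]; decide) (by rw [map_mul, hw, hs]; decide))
  refine ⟨u * w, by rw [map_mul, hu, hw]; rfl, mul_inv_eq_iff_eq_mul.1 ?_⟩
  calc u * w * m * (u * w)⁻¹ = u * (w * m * w⁻¹) * u⁻¹ := by group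
    _ = u * m * u⁻¹ * (u * c.z * u⁻¹) := by rw [hwm]; group
    _ = m := by rw [hum, c.z_comm u, mul_inv_cancel_right, mul_assoc, c.z_sq, mul_one]

theorem exists_b0 {m : M} (hm : m * m = 1) (hs : c.π m = s0) :
    ∃ b, c.π b = b0 ∧ b * m = m * b := by
  obtain ⟨b, hb⟩ := c.exists_lift (p := b0) (mem_alternatingGroup.2 (by decide))
  refine ⟨b, hb, c.comm_of_sq (c.sq_two b (by rw [hb]; exact b0_sq) (by rw [hb]; exact b0_card)) hm
    (c.sq_two _ ?_ ?_)⟩ <;> rw [map_mul, hb, hs] <;> decide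

/-- Every non-central involution can be moved to a lift of `s0`. -/
theorem exists_std {m : M} (hm : m * m = 1) (h : c.π m ≠ 1) :
    ∃ g, c.π (g * m * g⁻¹) = s0 := by
  obtain ⟨e, e8⟩ := c.invol_card hm h
  obtain ⟨g, hg, hgs⟩ := exists_conj_alt e s0_sq h (e8.trans s0_card.symm)
  obtain ⟨g, rfl⟩ := c.exists_lift hg
  exact ⟨g, by rw [map_mul, map_mul, map_inv, hgs]⟩

/-- A non-central involution is conjugate to its product with the centre. -/
theorem exists_swap {m : M} (hm : m * m = 1) (h : c.π m ≠ 1) :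
    ∃ u, u * m * u⁻¹ = m * c.z := by
  obtain ⟨g, hg⟩ := c.exists_std hm h
  obtain ⟨u, -, hu⟩ := c.exists_u (m := g * m * g⁻¹)
    (by calc g * m * g⁻¹ * (g * m * g⁻¹) = g * (m * m) * g⁻¹ := by group
          _ = 1 := by rw [hm]; group) hg
  refine ⟨g⁻¹ * u * g, ?_⟩
  calc g⁻¹ * u * g * m * (g⁻¹ * u * g)⁻¹ = g⁻¹ * (u * (g * m * g⁻¹) * u⁻¹) * g := by group
    _ = m * (g⁻¹ * c.z * g) := by rw [hu]; group
    _ = m * c.z := by rw [c.z_comm, inv_mul_cancel_right]

/-- The non-central involutions form one class. -/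
theorem isConj_invol {m n : M} (hm : m * m = 1) (h : c.π m ≠ 1) (hn : n * n = 1)
    (h' : c.π n ≠ 1) : ∃ g, g * m * g⁻¹ = n := by
  obtain ⟨e, e8⟩ := c.invol_card hm h
  obtain ⟨f, f8⟩ := c.invol_card hn h'
  obtain ⟨g, hg, hgs⟩ := exists_conj_alt e f h (e8.trans f8.symm)
  obtain ⟨g, rfl⟩ := c.exists_lift hg
  rcases c.lift_cases (show c.π (g * m * g⁻¹) = c.π n by rw [map_mul, map_mul, map_inv, hgs]) with
    r | r
  · exact ⟨g, r⟩
  · obtain ⟨u, hu⟩ := c.exists_swap hn h'
    refine ⟨u * g, ?_⟩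
    calc u * g * m * (u * g)⁻¹ = u * (g * m * g⁻¹) * u⁻¹ := by group
      _ = u * n * u⁻¹ * (u * c.z * u⁻¹) := by rw [r]; group
      _ = n := by rw [hu, c.z_comm u, mul_inv_cancel_right, mul_assoc, c.z_sq, mul_one]

/-- A preimage of a witness is perfect and contains the centre. -/
theorem witness_preimage {σ : P11} (W : Witness σ) :
    ⁅W.Q.comap c.π, W.Q.comap c.π⁆ = W.Q.comap c.π ∧ c.z ∈ W.Q.comap c.π ∧
      (W.Q.comap c.π).map c.π = W.Q := by
  set R := W.Q.comap c.π with hR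
  have hmap : R.map c.π = W.Q :=
    Subgroup.map_comap_eq_self (fun q hq => c.range.symm ▸ W.le_alt hq)
  have hD : ⁅R, R⁆.map c.π = W.Q := by rw [Subgroup.map_commutator, hmap, W.perfect]
  have hz : c.z ∈ ⁅R, R⁆ := by
    obtain ⟨d, hd, hdd⟩ : W.d ∈ ⁅R, R⁆.map c.π := hD.symm ▸ W.d_mem
    rw [← c.sq_two d (by rw [hdd, W.d_sq]) (by rw [hdd, W.d_card])]
    exact mul_mem hd hd
  refine ⟨le_antisymm (Subgroup.commutator_le_self _) fun a ha => ?_,
    show c.π c.z ∈ W.Q by rw [c.π_z]; exact one_mem _, hmap⟩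
  obtain ⟨b, hb, hba⟩ : c.π a ∈ ⁅R, R⁆.map c.π := hD.symm ▸ ha
  rcases c.lift_cases hba.symm with rfl | rfl
  exacts [hb, mul_mem hb hz]

include c in
/-- The cover is perfect. -/
theorem perfect : ⁅(⊤ : Subgroup M), (⊤ : Subgroup M)⁆ = ⊤ := by
  have hA : ⁅alternatingGroup (Fin 11), alternatingGroup (Fin 11)⁆ = alternatingGroup (Fin 11) := by
    set A := alternatingGroup (Fin 11)
    have : IsSimpleGroup A :=
      alternatingGroup.isSimpleGroup (by rw [Nat.card_eq_fintype_card, Fintype.card_fin]; norm_num)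
    have h1 := (inferInstance : (⁅(⊤ : Subgroup A), (⊤ : Subgroup A)⁆).Normal).eq_bot_or_eq_top
    rcases h1 with h1 | h1
    · exfalso
      have := Subgroup.commutator_eq_bot_iff_le_centralizer.1 h1
        (Subgroup.mem_top (⟨p3 0 1 2, mem_alternatingGroup.2 (by decide)⟩ : A))
      have := congrArg Subtype.val (Subgroup.mem_centralizer_iff.1 this
        ⟨p3 0 1 3, mem_alternatingGroup.2 (by decide)⟩ (Subgroup.mem_top _))
      exact absurd this (show ¬ (p3 0 1 3 * p3 0 1 2 = p3 0 1 2 * p3 0 1 3) by decide)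
    · have := congrArg (Subgroup.map A.subtype) h1
      rwa [Subgroup.map_commutator, ← MonoidHom.range_eq_map, Subgroup.range_subtype] at this
  let W : Witness 1 :=
    { Q := alternatingGroup (Fin 11)
      perfect := hA
      le_alt := le_rfl
      comm := fun q _ => by rw [mul_one, one_mul]
      d := b0
      d_mem := mem_alternatingGroup.2 (by decide)
      d_sq := b0_sq
      d_card := b0_card }
  have htop : W.Q.comap c.π = ⊤ := eq_top_iff.2 fun a _ => c.π_mem a
  have := (c.witness_preimage W).1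
  rwa [htop] at this

/-- The class of a non-central involution has even size. -/
theorem index_centralizer_even [Finite M] {m : M} (hm : m * m = 1) (h : c.π m ≠ 1) :
    2 ∣ (Subgroup.centralizer ({m} : Set M)).index := by
  classical
  let := Fintype.ofFinite (M ⧸ Subgroup.centralizer ({m} : Set M))
  obtain ⟨u, hu⟩ := c.exists_swap hm h
  set C := Subgroup.centralizer ({m} : Set M) with hC
  have hzi : c.z⁻¹ = c.z := inv_eq_of_mul_eq_one_right c.z_sq
  have hu' : u * m = m * c.z * u := mul_inv_eq_iff_eq_mul.1 hu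
  have hnorm : ∀ a, a ∈ C → u⁻¹ * a * u ∈ C := by
    intro a ha
    rw [hC, Subgroup.mem_centralizer_singleton_iff] at ha ⊢
    calc u⁻¹ * a * u * m = u⁻¹ * a * (u * m) := by group
      _ = u⁻¹ * (a * m) * c.z * u := by rw [hu']; group
      _ = u⁻¹ * m * (a * c.z) * u := by rw [ha]; group
      _ = u⁻¹ * (m * c.z) * a * u := by rw [c.z_comm]; group
      _ = _ := by rw [← hu]; group
  have hu2 : u * u ∈ C := by
    rw [hC, Subgroup.mem_centralizer_singleton_iff]
    calc u * u * m = u * (u * m) := by group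
      _ = u * (m * c.z * u) := by rw [hu']
      _ = m * c.z * (u * c.z) * u := by rw [← mul_assoc, ← mul_assoc, hu']; group
      _ = m * (u * u) := by
        rw [c.z_comm u, ← mul_assoc (m * c.z), mul_assoc m, c.z_sq, mul_one, mul_assoc]
  let f : M ⧸ C → M ⧸ C := Quotient.map' (fun a => a * u) fun a b hab => by
    rw [QuotientGroup.leftRel_apply] at hab ⊢
    simpa [mul_assoc] using hnorm _ hab
  have hf : ∀ a : M, f (a : M ⧸ C) = ((a * u : M) : M ⧸ C) := fun a => rfl
  have hinv : Function.Involutive f := by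
    intro q
    obtain ⟨a, rfl⟩ := QuotientGroup.mk_surjective q
    rw [hf, hf, QuotientGroup.eq]
    rw [show (a * u * u)⁻¹ * a = (u * u)⁻¹ by group]
    exact inv_mem hu2
  have hsupp : (hinv.toPerm f).support = Finset.univ := by
    refine Finset.eq_univ_iff_forall.2 fun q => Equiv.Perm.mem_support.2 ?_
    obtain ⟨a, rfl⟩ := QuotientGroup.mk_surjective q
    rw [Function.Involutive.coe_toPerm, hf, ne_eq, QuotientGroup.eq,
      show (a * u)⁻¹ * a = u⁻¹ by group, Subgroup.inv_mem_iff, hC,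
      Subgroup.mem_centralizer_singleton_iff, hu']
    intro e
    have := mul_right_cancel e
    exact c.z_ne (mul_eq_left.1 this)
  have h2 : ∀ n ∈ (hinv.toPerm f).cycleType, 2 ∣ n := fun n hn => by
    have h1 : n ∣ 2 := (Equiv.Perm.dvd_of_mem_cycleType hn).trans
      (orderOf_dvd_of_pow_eq_one (Equiv.ext fun q => hinv q))
    have := Equiv.Perm.two_le_of_mem_cycleType hn
    have := Nat.le_of_dvd (by norm_num) h1
    omega
  have := Multiset.dvd_sum h2
  rwa [Equiv.Perm.sum_cycleType, hsupp, Finset.card_univ, ← Nat.card_eq_fintype_card,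
    ← Subgroup.index_eq_card] at this

end Cov

end Cfsg.Agent.StdLy
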