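import Cfsg.Agent.StdLy.Cent

/-!
The odd part is trivial: otherwise its normaliser is strongly embedded with quotient the Lyons group.
-/

set_option autoImplicit false
set_option linter.style.haveILetI false

namespace Cfsg.Agent.StdLy

open Equiv Equiv.Perm Subgroup
open scoped commutatorElement

/-- An element of odd order whose square lies in a subgroup lies in it. -/
theorem mem_of_sq_odd {G : Type*} [Group G] (X : Subgroup G) {n : G} (hn : Odd (orderOf n))
    (h : n * n ∈ X) : n ∈ X := by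
  obtain ⟨i, hi⟩ := hn
  have : n = (n * n) ^ (i + 1) := by
    rw [← pow_two, ← pow_mul, show 2 * (i + 1) = orderOf n + 1 by omega, pow_succ, pow_orderOf_eq_one,
      one_mul]
  rw [this]
  exact pow_mem h _

/-- An odd group acted on by an involution with fixed points in a central-by-normal subgroup is
inverted modulo it. -/
theorem inverted_mod {G : Type*} [Group G] {N X : Subgroup G} (hXN : N ≤ normalizer (X : Set G))
    {s : G} (hs : s * s = 1) (hN : ∀ n ∈ N, s * n * s ∈ N) (hodd : ∀ n ∈ N, Odd (orderOf n))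
    (hC : ∀ n ∈ N, n * s = s * n → n ∈ X) {n : G} (hn : n ∈ N) : n * (s * n * s) ∈ X := by
  set a := (s * n * s)⁻¹ * n with ha
  have haN : a ∈ N := mul_mem (inv_mem (hN n hn)) hn
  have hsi : s⁻¹ = s := inv_eq_of_mul_eq_one_right hs
  have hflip : s * a * s = a⁻¹ := by
    calc s * a * s = s * s⁻¹ * n⁻¹ * (s⁻¹ * n * s) := by rw [ha]; group
      _ = a⁻¹ := by rw [ha, hsi, hs, one_mul, mul_inv_rev, inv_inv]
  obtain ⟨r, hr⟩ := hodd a haN
  set i := a ^ (r + 1) with hi
  have hii : i * i = a := by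
    rw [hi, ← pow_add, show r + 1 + (r + 1) = orderOf a + 1 by omega, pow_succ, pow_orderOf_eq_one,
      one_mul]
  have hiN : i ∈ N := pow_mem haN _
  have hsis : s * i * s = i⁻¹ := by
    have := conj_pow (a := s) (b := a) (i := r + 1)
    rw [hsi] at this
    rw [hi, ← inv_pow, ← hflip, this]
  have hcX : n * i⁻¹ ∈ X := by
    refine hC _ (mul_mem hn (inv_mem hiN)) ?_
    have e1 : s * (n * i⁻¹) * s = n * i⁻¹ := by
      calc s * (n * i⁻¹) * s = s * n * s * (s⁻¹ * i⁻¹ * s) := by group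
        _ = s * n * s * (s * i⁻¹ * s⁻¹) := by rw [hsi]
        _ = s * n * s * ((s * n * s)⁻¹ * n * i⁻¹) := by
          rw [show s * i⁻¹ * s⁻¹ = (s * i * s⁻¹)⁻¹ by group, hsi, hsis, inv_inv, ← ha, ← hii,
            mul_inv_cancel_right]
        _ = n * i⁻¹ := by group
    calc n * i⁻¹ * s = s * (n * i⁻¹) * s * s := by rw [e1]
      _ = s * (n * i⁻¹) * (s * s) := by group
      _ = s * (n * i⁻¹) := by rw [hs, mul_one]
  have hc := hcX
  have e2 : s * n * s = n * i⁻¹ * i⁻¹ := by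
    rw [mul_assoc n, ← mul_inv_rev, hii, ha]; group
  rw [e2, show n * (n * i⁻¹ * i⁻¹) = n * i⁻¹ * (i * (n * i⁻¹) * i⁻¹) by group]
  exact mul_mem hc ((mem_normalizer_iff.1 (hXN hiN) _).1 hc)

namespace Base.Full

variable {M : Type*} [Group M] {c : Cov M} {G : Type*} [Group G] [Finite G] {S : Base c G}
  (F : Full S)

/-- The normaliser of the odd part. -/
def H : Subgroup G := normalizer (F.X : Set G)

theorem cent_le_H {h : G} (hh : h * S.z = S.z * h) : h ∈ F.H :=
  F.mem_normalizer_X (by rw [hh, mul_inv_cancel_right])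

theorem z_mem_H : S.z ∈ F.H := F.cent_le_H rfl

theorem g_mem_H : F.g ∈ F.H := F.mem_normalizer_X F.comm

theorem X_le_H : F.X ≤ F.H := le_normalizer

theorem φ_mem_H (a : M) : S.φ a ∈ F.H := F.cent_le_H (S.φ_comm_z a)

theorem X_comm_z {x : G} (hx : x ∈ F.X) : x * S.z = S.z * x := S.K_comm_z (F.X_le hx)

theorem X_disjoint {a : M} (h : S.φ a ∈ F.X) : a = 1 := by
  rcases S.φ_mem_K (F.X_le h) with e | e
  · exact e
  · exfalso
    have := ((F.mem_X _).1 h).2
    rw [e, orderOf_eq_prime (p := 2) (show (S.φ c.z) ^ 2 = 1 by rw [pow_two]; exact S.z_sq) S.z_ne]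
      at this
    exact absurd this (by decide)

theorem X_no_invol {x : G} (hx : x ∈ F.X) (h : x * x = 1) : x = 1 :=
  Subgroup.mem_bot.1 (mem_of_sq_odd ⊥ ((F.mem_X x).1 hx).2 (by rw [h]; exact one_mem _))

variable [IsSimpleGroup G] (hG : ¬ IsMulCommutative G)

include hG

omit hG in
/-- The two swaps joining the involution to its partner. -/
theorem exists_swaps : ∃ u b : M,
    S.φ u * (F.g * S.z * F.g⁻¹) * (S.φ u)⁻¹ = F.g * S.z * F.g⁻¹ * S.z ∧
      F.g * S.φ b * F.g⁻¹ * S.z * (F.g * S.φ b * F.g⁻¹)⁻¹ = S.z * (F.g * S.z * F.g⁻¹) := by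
  obtain ⟨m, hm, hm2, hπ⟩ := F.pair.exists_m
  obtain ⟨n, hn, hn2, hπn⟩ := F.pair.symm.exists_m
  have ne1 : ∀ {σ : P11}, σ.support.card = 8 → σ ≠ 1 := fun h e => by simp [e] at h
  obtain ⟨u, hu⟩ := c.exists_swap hm2 (hπ ▸ ne1 F.pair.type_eight)
  obtain ⟨b, hb⟩ := c.exists_swap hn2 (hπn ▸ ne1 F.pair.symm.type_eight)
  refine ⟨u, b, ?_, ?_⟩
  · rw [← conj_z, ← hm, ← map_inv, ← map_mul, ← map_mul, hu, map_mul]; rfl
  · show (S.conj F.g).φ b * S.z * ((S.conj F.g).φ b)⁻¹ = S.z * (S.conj F.g).z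
    rw [← hn, ← map_inv, ← map_mul, ← map_mul, hb, map_mul]; rfl

/-- The involutions of a subgroup containing both centralisers are conjugate in it. -/
theorem invol_conj (N : Subgroup G) (hCN : ∀ w, w * S.z = S.z * w → w ∈ N)
    (hTN : ∀ a, F.g * S.φ a * F.g⁻¹ ∈ N) {t : G} (ht : t ∈ N) (h2 : t * t = 1) (h1 : t ≠ 1) :
    ∃ v ∈ N, v * S.z * v⁻¹ = t := by
  classical
  have : Fact (Nat.Prime 2) := ⟨Nat.prime_two⟩
  set C := (centralizer ({S.z} : Set G)).subgroupOf N with hC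
  have hidx : ¬ 2 ∣ C.index := fun h => F.odd_index (h.trans (relIndex_dvd_index_of_le fun w hw =>
    hCN w (mem_centralizer_singleton_iff.1 hw)))
  have ht2 : IsPGroup 2 (zpowers (⟨t, ht⟩ : N)) := IsPGroup.of_card (n := 1) (by
    rw [Nat.card_zpowers, pow_one]
    exact orderOf_eq_prime (Subtype.ext (by simpa [pow_two] using h2))
      fun e => h1 (congrArg Subtype.val e))
  obtain ⟨P⟩ : Nonempty (Sylow 2 C) := inferInstance
  have hP' : IsPGroup 2 ((P : Subgroup C).map C.subtype) := P.isPGroup'.map _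
  have hPi : ¬ 2 ∣ ((P : Subgroup C).map C.subtype).index := by
    rw [Subgroup.index_map, C.ker_subtype, sup_bot_eq, C.range_subtype]
    exact fun h => (Nat.prime_two.dvd_mul.1 h).elim P.not_dvd_index hidx
  obtain ⟨Q, hQ⟩ := ht2.exists_le_sylow
  obtain ⟨u, hu⟩ := MulAction.exists_smul_eq N Q (hP'.toSylow hPi)
  have hmem : u * ⟨t, ht⟩ * u⁻¹ ∈ (hP'.toSylow hPi : Subgroup N) := by
    rw [← hu, Sylow.coe_subgroup_smul]
    exact Subgroup.smul_mem_pointwise_smul _ (MulAut.conj u) _ (hQ (mem_zpowers _))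
  obtain ⟨w, -, hw⟩ := hmem
  have hwz := mem_centralizer_singleton_iff.1 w.2
  change ((w : N) : G) * S.z = S.z * ((w : N) : G) at hwz
  rw [show ((w : N) : G) = (u : G) * t * (u : G)⁻¹ from
    congrArg (fun v : N => (v : G)) hw] at hwz
  set t' := (u : G) * t * (u : G)⁻¹ with ht'
  have ht'2 : t' * t' = 1 := by
    rw [ht', show (u : G) * t * (u : G)⁻¹ * ((u : G) * t * (u : G)⁻¹) = (u : G) * (t * t) * (u : G)⁻¹ by
      group, h2]
    group
  have ht'1 : t' ≠ 1 := fun e => h1 (conj_eq_one_iff.1 e)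
  suffices ∃ v ∈ N, v * S.z * v⁻¹ = t' by
    obtain ⟨v, hv, hvt⟩ := this
    refine ⟨(u : G)⁻¹ * v, mul_mem (inv_mem u.2) hv, ?_⟩
    calc (u : G)⁻¹ * v * S.z * ((u : G)⁻¹ * v)⁻¹ = (u : G)⁻¹ * (v * S.z * v⁻¹) * u := by group
      _ = t := by rw [hvt, ht']; group
  obtain ⟨h, hh⟩ := F.even_invol hwz ht'2 ht'1 (F.ψ_even hG hwz)
  obtain ⟨n, hn⟩ := F.conj_mem_range (h := h) (by rw [hh]; exact hwz)
  rw [hh] at hn
  have hn2 : n * n = 1 := S.inj (by rw [map_mul, hn, ht'2, map_one])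
  by_cases hπn : c.π n = 1
  · rcases (c.ker n).1 hπn with e | e
    · exact absurd (by rw [← hn, e, map_one]) ht'1
    · exact ⟨1, one_mem _, by rw [← hn, e]; simp [Base.z]⟩
  obtain ⟨m, hm, hm2, hπm⟩ := F.pair.exists_m
  have hm1 : c.π m ≠ 1 := fun e => by
    have := F.pair.type_eight
    rw [← hπm, e] at this
    simp at this
  obtain ⟨a, ha⟩ := c.isConj_invol hm2 hm1 hn2 hπn
  obtain ⟨p, q, hp, hq⟩ := F.exists_swaps
  set y := F.g * S.z * F.g⁻¹
  have hzy : S.z * y = y * S.z := F.comm.symm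
  refine ⟨S.φ a * (S.φ p)⁻¹ * (F.g * S.φ q * F.g⁻¹), mul_mem (mul_mem (hCN _ (S.φ_comm_z a))
    (inv_mem (hCN _ (S.φ_comm_z p)))) (hTN q), ?_⟩
  calc S.φ a * (S.φ p)⁻¹ * (F.g * S.φ q * F.g⁻¹) * S.z *
        (S.φ a * (S.φ p)⁻¹ * (F.g * S.φ q * F.g⁻¹))⁻¹
      = S.φ a * (S.φ p)⁻¹ * (F.g * S.φ q * F.g⁻¹ * S.z * (F.g * S.φ q * F.g⁻¹)⁻¹) * S.φ p *
          (S.φ a)⁻¹ := by group
    _ = S.φ a * (S.φ p)⁻¹ * (S.φ p * y * (S.φ p)⁻¹) * S.φ p * (S.φ a)⁻¹ := by rw [hq, hp, hzy]
    _ = S.φ a * y * (S.φ a)⁻¹ := by group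
    _ = t' := by rw [← hn, ← ha, map_mul, map_mul, map_inv, hm, conj_z]

/-- Every involution of the normaliser is conjugate there to the central one. -/
theorem H_invol {t : G} (ht : t ∈ F.H) (h2 : t * t = 1) (h1 : t ≠ 1) :
    ∃ h ∈ F.H, h * S.z * h⁻¹ = t :=
  F.invol_conj hG F.H (fun _ hw => F.cent_le_H hw)
    (fun a => mul_mem (mul_mem F.g_mem_H (F.φ_mem_H a)) (inv_mem F.g_mem_H)) ht h2 h1

/-- A normal subgroup of the normaliser over the odd part is the odd part or everything. -/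
theorem H_normal (N : Subgroup G) (hXN : F.X ≤ N) (hNH : N ≤ F.H)
    (hN : F.H ≤ normalizer (N : Set G)) : N = F.X ∨ N = F.H := by
  classical
  have : Fact (Nat.Prime 2) := ⟨Nat.prime_two⟩
  have : Finite M := Finite.of_injective S.φ S.inj
  have hconj : ∀ h ∈ F.H, ∀ n ∈ N, h * n * h⁻¹ ∈ N := fun h hh n hn =>
    (mem_normalizer_iff.1 (hN hh) n).1 hn
  let A : Subgroup M := N.comap S.φ
  have hA : A.Normal := ⟨fun a ha b => by
    show S.φ (b * a * b⁻¹) ∈ N
    rw [map_mul, map_mul, map_inv]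
    exact hconj _ (F.φ_mem_H b) _ ha⟩
  have hsimple : ∀ a ∈ A, c.π a = 1 ∨ A.map c.π = alternatingGroup (Fin 11) := by
    intro a ha
    have : IsSimpleGroup (alternatingGroup (Fin 11)) :=
      alternatingGroup.isSimpleGroup (by rw [Nat.card_eq_fintype_card, Fintype.card_fin]; norm_num)
    let f : M →* alternatingGroup (Fin 11) := c.π.codRestrict _ c.π_mem
    have hf : Function.Surjective f := fun p => by
      obtain ⟨b, hb⟩ := c.exists_lift p.2
      exact ⟨b, Subtype.ext hb⟩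
    rcases (hA.map f hf).eq_bot_or_eq_top with e | e
    · have hfa : f a ∈ A.map f := Subgroup.mem_map_of_mem f ha
      rw [e, Subgroup.mem_bot] at hfa
      exact Or.inl (congrArg Subtype.val hfa)
    · right
      refine le_antisymm (map_le_iff_le_comap.2 fun b _ => c.π_mem b) fun p hp => ?_
      have hp' : (⟨p, hp⟩ : alternatingGroup (Fin 11)) ∈ A.map f := by
        rw [e]; exact Subgroup.mem_top _
      obtain ⟨b, hb, hbp⟩ := hp'
      exact ⟨b, hb, congrArg Subtype.val hbp⟩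
  rcases Nat.even_or_odd (Nat.card N) with hev | hodd
  · right
    rw [even_iff_two_dvd] at hev
    obtain ⟨⟨t, ht⟩, ht2⟩ := exists_prime_orderOf_dvd_card' 2 hev
    rw [Subgroup.orderOf_mk] at ht2
    obtain ⟨h, hh, rfl⟩ := F.H_invol hG (hNH ht) (by rw [← pow_two, ← ht2, pow_orderOf_eq_one])
      (fun e => by rw [e, orderOf_one] at ht2; omega)
    have hz : S.z ∈ N := by
      have := hconj h⁻¹ (inv_mem hh) _ ht
      rwa [show h⁻¹ * (h * S.z * h⁻¹) * h⁻¹⁻¹ = S.z by group] at this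
    obtain ⟨m, hm, -, hπ⟩ := F.pair.exists_m
    have hmA : m ∈ A := by
      show S.φ m ∈ N
      rw [hm, conj_z]
      exact hconj _ F.g_mem_H _ hz
    have hfull : A.map c.π = alternatingGroup (Fin 11) :=
      (hsimple m hmA).resolve_left fun e => by
        have := F.pair.type_eight
        rw [← hπ, e] at this
        simp at this
    have hAtop : ∀ a, S.φ a ∈ N := by
      intro a
      obtain ⟨b, hb, hba⟩ : c.π a ∈ A.map c.π := hfull.symm ▸ c.π_mem a
      rcases c.lift_cases hba.symm with rfl | rfl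
      · exact hb
      · rw [map_mul]; exact mul_mem hb hz
    have hC : ∀ w, w * S.z = S.z * w → w ∈ N := by
      intro w hw
      obtain ⟨a, x, hx, rfl⟩ := F.decomp hG hw
      exact mul_mem (hAtop a) (hXN hx)
    refine le_antisymm hNH fun w hw => ?_
    obtain ⟨v, hv, hv'⟩ := F.invol_conj hG N hC (fun a => hconj _ F.g_mem_H _ (hAtop a))
      (hconj w hw _ hz)
      (by rw [show w * S.z * w⁻¹ * (w * S.z * w⁻¹) = w * (S.z * S.z) * w⁻¹ by group, S.z_sq]; group)
      (fun e => S.z_ne (conj_eq_one_iff.1 e))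
    have hvw : v⁻¹ * w * S.z = S.z * (v⁻¹ * w) := by
      rw [← mul_inv_eq_iff_eq_mul]
      calc v⁻¹ * w * S.z * (v⁻¹ * w)⁻¹ = v⁻¹ * (w * S.z * w⁻¹) * v := by group
        _ = S.z := by rw [← hv']; group
    simpa using mul_mem hv (hC _ hvw)
  · left
    have hfix : ∀ h ∈ F.H, ∀ n ∈ N, n * (h * S.z * h⁻¹) = h * S.z * h⁻¹ * n → n ∈ F.X := by
      intro h hh n hn hc'
      set n' := h⁻¹ * n * h with hn'
      have hn'N : n' ∈ N := by
        have := hconj h⁻¹ (inv_mem hh) n hn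
        rwa [inv_inv] at this
      have hn'z : n' * S.z = S.z * n' := by
        calc n' * S.z = h⁻¹ * (n * (h * S.z * h⁻¹)) * h := by rw [hn']; group
          _ = _ := by rw [hc', hn']; group
      obtain ⟨a, x, hx, hax⟩ := F.decomp hG hn'z
      have ha : a ∈ A := by
        show S.φ a ∈ N
        rw [show S.φ a = n' * x⁻¹ by rw [hax]; group]
        exact mul_mem hn'N (inv_mem (hXN hx))
      have hπa : c.π a = 1 := (hsimple a ha).resolve_right fun e => by
        obtain ⟨b, hb, hbs⟩ : s0 ∈ A.map c.π := e.symm ▸ mem_alternatingGroup.2 (by decide)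
        replace hb : S.φ b ∈ N := hb
        have h1 : orderOf s0 ∣ orderOf (⟨S.φ b, hb⟩ : N) := by
          rw [← hbs, Subgroup.orderOf_mk, orderOf_injective S.φ S.inj]
          exact orderOf_map_dvd c.π b
        rw [orderOf_eq_prime (by rw [pow_two, s0_sq]) (by decide : s0 ≠ 1)] at h1
        exact Nat.not_even_iff_odd.2 hodd (even_iff_two_dvd.2 (h1.trans (orderOf_dvd_natCard _)))
      have hn'X : n' ∈ F.X := by
        rcases (c.ker a).1 hπa with e | e
        · rw [hax, e, map_one, one_mul]; exact hx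
        · exfalso
          have hzN : S.z ∈ N := by rw [Base.z, ← e]; exact ha
          have h1 := orderOf_dvd_natCard (⟨S.z, hzN⟩ : N)
          rw [Subgroup.orderOf_mk, orderOf_eq_prime (by rw [pow_two, S.z_sq]) S.z_ne] at h1
          exact Nat.not_even_iff_odd.2 hodd (even_iff_two_dvd.2 h1)
      have := (mem_normalizer_iff.1 hh n').1 hn'X
      rwa [hn', show h * (h⁻¹ * n * h) * h⁻¹ = n by group] at this
    have hoddN : ∀ n ∈ N, Odd (orderOf n) := fun n hn => by
      rw [← Subgroup.orderOf_mk n hn]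
      exact hodd.of_dvd_nat (orderOf_dvd_natCard _)
    have hinv : ∀ h ∈ F.H, ∀ n ∈ N, n * (h * S.z * h⁻¹ * n * (h * S.z * h⁻¹)) ∈ F.X := by
      intro h hh n hn
      set s := h * S.z * h⁻¹ with hs_def
      have hs : s * s = 1 := by
        rw [hs_def, show h * S.z * h⁻¹ * (h * S.z * h⁻¹) = h * (S.z * S.z) * h⁻¹ by group, S.z_sq]
        group
      have hsH : s ∈ F.H := mul_mem (mul_mem hh F.z_mem_H) (inv_mem hh)
      refine inverted_mod (N := N) hNH hs (fun k hk => ?_) hoddN (hfix h hh) hn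
      have := hconj s hsH k hk
      rwa [inv_eq_of_mul_eq_one_right hs] at this
    refine le_antisymm (fun n hn => ?_) hXN
    obtain ⟨p, q, -, hq⟩ := F.exists_swaps
    set y := F.g * S.z * F.g⁻¹ with hy
    have hgq : F.g * S.φ q * F.g⁻¹ ∈ F.H :=
      mul_mem (mul_mem F.g_mem_H (F.φ_mem_H q)) (inv_mem F.g_mem_H)
    have h1 := hinv 1 (one_mem _) n hn
    rw [one_mul, inv_one, mul_one] at h1
    have hbN : S.z * n * S.z ∈ N := by
      have := hconj _ F.z_mem_H n hn
      rwa [inv_eq_of_mul_eq_one_right S.z_sq] at this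
    have h2 := hinv F.g F.g_mem_H _ hbN
    have h3 := hinv _ hgq n hn
    rw [← hy] at h2
    rw [hq] at h3
    set b := S.z * n * S.z with hb
    have hzy : S.z * y = y * S.z := F.comm.symm
    rw [show S.z * y * n * (S.z * y) = y * b * y by
      rw [hb]
      conv_lhs => rw [hzy, show y * S.z * n * (y * S.z) = y * S.z * n * (S.z * y) by rw [hzy]]
      group] at h3
    set d := y * b * y
    refine mem_of_sq_odd F.X (hoddN n hn) ?_
    have hdN : d ∈ N := by
      have hyH : y ∈ F.H := mul_mem (mul_mem F.g_mem_H F.z_mem_H) (inv_mem F.g_mem_H)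
      have := hconj y hyH b hbN
      rwa [show y⁻¹ = y from inv_eq_of_mul_eq_one_right (by
        rw [hy, show F.g * S.z * F.g⁻¹ * (F.g * S.z * F.g⁻¹) = F.g * (S.z * S.z) * F.g⁻¹ by group,
          S.z_sq]
        group)] at this
    have norm : ∀ k ∈ N, ∀ x ∈ F.X, k * x * k⁻¹ ∈ F.X := fun k hk x hx =>
      (mem_normalizer_iff.1 (hNH hk) x).1 hx
    have hda : d * n ∈ F.X := by
      have := norm n⁻¹ (inv_mem hn) _ h3
      rwa [inv_inv, show n⁻¹ * (n * d) * n = d * n by group] at this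
    rw [show n * n = n * b * (d * ((b * d)⁻¹ * n) : G) by group]
    refine mul_mem h1 ?_
    rw [show d * ((b * d)⁻¹ * n) = d * (b * d)⁻¹ * d⁻¹ * (d * n) by group]
    exact mul_mem (norm d hdN _ (inv_mem h2)) hda

end Base.Full

end Cfsg.Agent.StdLy
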