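import Cfsg.Agent.StdLy.Pair

/-!
The second factors of two commuting configurations have no element of order four and share their
elements of odd order.
-/

set_option autoImplicit false
set_option maxRecDepth 100000

namespace Cfsg.Agent.StdLy

open Equiv Equiv.Perm Subgroup
open scoped commutatorElement

theorem card_centralizer_s0 : Nat.card (centralizer ({s0} : Set P11)) = 2304 :=
  card_centralizer_eight s0_sq s0_card

theorem mem_cs0 {p : P11} : p ∈ centralizer ({s0} : Set P11) ↔ p * s0 = s0 * p :=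
  mem_centralizer_singleton_iff

theorem card_nine_of_sylow {H : Type*} [Group H] [Finite H] (h : Nat.card H ∣ 2 ^ 9 * 3 ^ 2)
    {P Q : Subgroup H} (hP : Nat.card P = 9) (hQ : IsPGroup 3 Q) (hle : P ≤ Q) : P = Q := by
  have : Fact (Nat.Prime 3) := ⟨Nat.prime_three⟩
  obtain ⟨n, hn⟩ := IsPGroup.iff_card.1 hQ
  have h1 : 3 ^ n ∣ 2 ^ 9 * 3 ^ 2 := hn ▸ (card_subgroup_dvd_card Q).trans h
  have hco : Nat.Coprime (3 ^ n) (2 ^ 9) := Nat.Coprime.pow n 9 (by norm_num)
  have h2 := (Nat.pow_dvd_pow_iff_le_right (by norm_num : 1 < 3)).1 (hco.dvd_of_dvd_mul_left h1)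
  have h3 : Nat.card Q ≤ Nat.card P := by
    rw [hn, hP, show 9 = 3 ^ 2 from rfl]
    exact Nat.pow_le_pow_right (by norm_num) h2
  exact eq_of_le_of_card_ge hle h3

/-- A subgroup of order nine absorbs commuting elements of three-power order. -/
theorem mem_of_comm_nine {H : Type*} [Group H] [Finite H] (h : Nat.card H ∣ 2 ^ 9 * 3 ^ 2)
    {P : Subgroup H} (hP : Nat.card P = 9) {t : H} (hn : t ∈ normalizer (P : Set H)) {j : ℕ}
    (ht : t ^ 3 ^ j = 1) : t ∈ P := by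
  have : Fact (Nat.Prime 3) := ⟨Nat.prime_three⟩
  have h1 : IsPGroup 3 P := IsPGroup.of_card (n := 2) (by rw [hP]; norm_num)
  obtain ⟨i, -, hi⟩ := (Nat.dvd_prime_pow Nat.prime_three).1 (orderOf_dvd_of_pow_eq_one ht)
  have h2 : IsPGroup 3 (zpowers t) := IsPGroup.of_card (n := i) (by rw [Nat.card_zpowers, hi])
  rw [card_nine_of_sylow h hP (h2.to_sup_of_normal_right' h1 (zpowers_le.2 hn)) le_sup_right]
  exact mem_sup_left (mem_zpowers t)

/-- Subgroups of order nine are conjugate. -/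
theorem exists_conj_nine {H : Type*} [Group H] [Finite H] (h : Nat.card H ∣ 2 ^ 9 * 3 ^ 2)
    {P Q : Subgroup H} (hP : Nat.card P = 9) (hQ : IsPGroup 3 Q) :
    ∃ g : H, ∀ q ∈ Q, g * q * g⁻¹ ∈ P := by
  have : Fact (Nat.Prime 3) := ⟨Nat.prime_three⟩
  obtain ⟨A, hA⟩ := (IsPGroup.of_card (p := 3) (n := 2) (G := P) (by rw [hP]; norm_num)).exists_le_sylow
  obtain ⟨B, hB⟩ := hQ.exists_le_sylow
  obtain ⟨g, hg⟩ := MulAction.exists_smul_eq H B A
  refine ⟨g, fun q hq => ?_⟩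
  rw [card_nine_of_sylow h hP A.isPGroup' hA, ← hg, Sylow.coe_subgroup_smul]
  exact Subgroup.smul_mem_pointwise_smul q (MulAut.conj g) _ (hB hq)

namespace Base

variable {M : Type*} [Group M] {c : Cov M} {G : Type*} [Group G]

/-- A normalised pair. -/
structure StdPair (S T : Base c G) where
  pair : Pair S T
  hS : S.ψ T.z = s0
  hT : T.ψ S.z = s0
  m : M
  φ_m : S.φ m = T.z
  m_sq : m * m = 1
  π_m : c.π m = s0
  cl : M
  xl : M
  π_cl : c.π cl = cA
  cl_three : cl ^ 3 = 1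
  π_xl : c.π xl = xx
  xl_three : xl ^ 3 = 1

theorem Pair.exists_std {S T : Base c G} (hp : Pair S T) :
    ∃ S' T' : Base c G, Nonempty (StdPair S' T') ∧ S'.z = S.z ∧ T'.z = T.z ∧
      (∀ k, k ∈ S'.K ↔ k ∈ S.K) ∧ ∀ k, k ∈ T'.K ↔ k ∈ T.K := by
  obtain ⟨S', hp', hz, hK, hS⟩ := hp.exists_twist
  obtain ⟨T', hp'', hz', hK', hT⟩ := hp'.symm.exists_twist
  obtain ⟨m, hm, hm2, hπ⟩ := hp''.symm.exists_m
  obtain ⟨hA, -, -, -, hx, -⟩ := threes_comm
  obtain ⟨cl, hcl, hcl3⟩ := c.exists_lift_three hA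
  obtain ⟨xl, hxl, hxl3⟩ := c.exists_lift_three hx
  exact ⟨S', T', ⟨⟨hp''.symm, by rw [hz', hS], hT, m, hm, hm2, by rw [hπ, hz', hS], cl, xl, hcl,
    hcl3, hxl, hxl3⟩⟩, hz, hz', hK, hK'⟩

namespace StdPair

variable {S T : Base c G} (P : StdPair S T)

/-- The centraliser of the involution in the cover. -/
def Cm : Subgroup M := centralizer ({P.m} : Set M)

theorem mem_Cm {a : M} : a ∈ P.Cm ↔ a * P.m = P.m * a := mem_centralizer_singleton_iff

theorem mem_Cm_of_three {a : M} {p : P11} (ha : a ^ 3 = 1) (hp : c.π a = p) (h : p * s0 = s0 * p) :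
    a ∈ P.Cm :=
  P.mem_Cm.2 (c.comm_of_odd (n := 3) (by decide) ha (by rw [hp, P.π_m, h]))

theorem φ_comm_y {a : M} (ha : a ∈ P.Cm) : S.φ a * T.z = T.z * S.φ a := by
  rw [← P.φ_m, ← map_mul, ← map_mul, P.mem_Cm.1 ha]

/-- The action on the other cover. -/
def f : P.Cm →* centralizer ({s0} : Set P11) :=
  MonoidHom.mk' (fun a => ⟨T.ψ (S.φ a), mem_cs0.2 (by
      rw [← P.hT]; exact ψ_comm (P.φ_comm_y a.2) P.pair.comm (S.φ_comm_z _))⟩)
    fun a b => Subtype.ext (by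
      show T.ψ (S.φ ((a : M) * b)) = _
      rw [map_mul]
      exact T.ψ_mul (P.φ_comm_y a.2) (P.φ_comm_y b.2))

theorem f_eq_one {a : P.Cm} : P.f a = 1 ↔ S.φ a ∈ T.K := by
  rw [Subtype.ext_iff]
  exact ⟨T.mem_K_of_ψ (P.φ_comm_y a.2), T.ψ_K⟩

theorem f_comm {k : G} (hk : k ∈ S.K) (a : P.Cm) :
    T.ψ k * (P.f a : P11) = (P.f a : P11) * T.ψ k :=
  ψ_comm (P.pair.K_comm_y hk) (P.φ_comm_y a.2) (S.K_comm hk a)

/-- The lift of `cA` in the centraliser. -/
def clC : P.Cm := ⟨P.cl, P.mem_Cm_of_three P.cl_three P.π_cl threes_comm.2.2.2.2.2.1⟩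

/-- The lift of `xx` in the centraliser. -/
def xlC : P.Cm := ⟨P.xl, P.mem_Cm_of_three P.xl_three P.π_xl threes_comm.2.2.2.2.2.2.2.2.2.1⟩

/-- The standard subgroup of order nine. -/
def nine : Subgroup P.Cm := closure {P.clC, P.xlC}

theorem cl_xl : Commute P.cl P.xl :=
  c.comm_of_odd (n := 3) (by decide) P.cl_three (by
    rw [P.π_cl, P.π_xl]; exact threes_comm.2.2.2.2.2.2.2.2.2.2.1)

theorem mem_nine {a : P.Cm} : a ∈ P.nine ↔ ∃ i k : Fin 3, (a : M) = P.cl ^ (i : ℕ) * P.xl ^ (k : ℕ) := by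
  constructor
  · intro ha
    induction ha using closure_induction with
    | mem b hb =>
      rcases hb with rfl | rfl
      · exact ⟨1, 0, by simp [clC]⟩
      · exact ⟨0, 1, by simp [xlC]⟩
    | one => exact ⟨0, 0, by simp⟩
    | mul a b _ _ ha hb =>
      obtain ⟨i, k, ha⟩ := ha
      obtain ⟨i', k', hb⟩ := hb
      refine ⟨i + i', k + k', ?_⟩
      rw [Subgroup.coe_mul, ha, hb, (P.cl_xl.pow_pow (i' : ℕ) (k : ℕ)).symm.mul_mul_mul_comm,
        ← pow_add, ← pow_add, pow_eq_pow_mod ((i : ℕ) + i') P.cl_three,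
        pow_eq_pow_mod ((k : ℕ) + k') P.xl_three]
      simp [Fin.val_add]
    | inv a _ ha =>
      obtain ⟨i, k, ha⟩ := ha
      refine ⟨-i, -k, ?_⟩
      rw [Subgroup.coe_inv, ha, inv_eq_iff_mul_eq_one,
        (P.cl_xl.pow_pow ((-i : Fin 3) : ℕ) (k : ℕ)).symm.mul_mul_mul_comm, ← pow_add, ← pow_add,
        pow_eq_pow_mod ((i : ℕ) + (-i : Fin 3)) P.cl_three,
        pow_eq_pow_mod ((k : ℕ) + (-k : Fin 3)) P.xl_three,
        ← Fin.val_add, ← Fin.val_add, add_neg_cancel, add_neg_cancel]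
      simp
  · rintro ⟨i, k, h⟩
    have : a = P.clC ^ (i : ℕ) * P.xlC ^ (k : ℕ) := Subtype.ext (by simp [h, clC, xlC])
    rw [this]
    exact mul_mem (pow_mem (Subgroup.subset_closure (Set.mem_insert P.clC {P.xlC})) _)
      (pow_mem (Subgroup.subset_closure (Set.mem_insert_of_mem P.clC (Set.mem_singleton P.xlC))) _)

theorem π_nine {a : M} {i k : Fin 3} (h : a = P.cl ^ (i : ℕ) * P.xl ^ (k : ℕ)) :
    c.π a = cA ^ (i : ℕ) * xx ^ (k : ℕ) := by
  rw [h, map_mul, map_pow, map_pow, P.π_cl, P.π_xl]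

theorem card_nine : Nat.card P.nine = 9 := by
  have key : ∀ i k i' k' : Fin 3, cA ^ (i : ℕ) * xx ^ (k : ℕ) = cA ^ (i' : ℕ) * xx ^ (k' : ℕ) →
      i = i' ∧ k = k' := by decide
  have hmem : ∀ p : Fin 3 × Fin 3, P.cl ^ (p.1 : ℕ) * P.xl ^ (p.2 : ℕ) ∈ P.Cm := fun p =>
    mul_mem (pow_mem (P.mem_Cm_of_three P.cl_three P.π_cl threes_comm.2.2.2.2.2.1) _)
      (pow_mem (P.mem_Cm_of_three P.xl_three P.π_xl threes_comm.2.2.2.2.2.2.2.2.2.1) _)
  let F : Fin 3 × Fin 3 → P.nine := fun p =>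
    ⟨⟨_, hmem p⟩, P.mem_nine.2 ⟨p.1, p.2, rfl⟩⟩
  have hF : Function.Bijective F := by
    refine ⟨fun p q e => ?_, fun a => ?_⟩
    · have := key _ _ _ _ ((P.π_nine rfl).symm.trans
        ((congrArg (fun w : P.nine => c.π ((w : P.Cm) : M)) e).trans (P.π_nine rfl)))
      exact Prod.ext this.1 this.2
    · obtain ⟨i, k, h⟩ := P.mem_nine.1 a.2
      exact ⟨(i, k), Subtype.ext (Subtype.ext h.symm)⟩
  rw [← Nat.card_eq_of_bijective F hF]
  simp

variable [Finite M]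

theorem card_Cm : Nat.card P.Cm ∣ 2 ^ 9 * 3 ^ 2 := by
  classical
  let g : P.Cm →* centralizer ({s0} : Set P11) :=
    MonoidHom.mk' (fun a => ⟨c.π a, mem_cs0.2 (by
      rw [← P.π_m, ← map_mul, ← map_mul, P.mem_Cm.1 a.2])⟩) fun a b => Subtype.ext (map_mul c.π _ _)
  have h1 := card_subgroup_dvd_card g.range
  rw [card_centralizer_s0] at h1
  have h2 : Nat.card g.ker ∣ 2 := by
    have hle : g.ker.map P.Cm.subtype ≤ zpowers c.z := by
      rintro _ ⟨a, ha, rfl⟩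
      rcases (c.ker _).1 (congrArg Subtype.val (MonoidHom.mem_ker.1 ha)) with e | e
      · rw [Subgroup.coe_subtype, e]; exact one_mem _
      · rw [Subgroup.coe_subtype, e]; exact mem_zpowers _
    rw [Nat.card_congr (g.ker.equivMapOfInjective P.Cm.subtype P.Cm.subtype_injective).toEquiv]
    refine (card_dvd_of_le hle).trans ?_
    rw [Nat.card_zpowers]
    exact orderOf_dvd_of_pow_eq_one (by rw [pow_two, c.z_sq])
  rw [card_eq_card_quotient_mul_card_subgroup g.ker,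
    Nat.card_congr (QuotientGroup.quotientKerEquivRange g).toEquiv]
  exact (mul_dvd_mul h1 h2).trans (by norm_num)

omit [Finite M] in
/-- The group of the pair inside the cover is stable under the centraliser. -/
theorem conj_T_K {g a : M} (hg : g ∈ P.Cm) (ha : a ∈ P.Cm) (h : S.φ a ∈ T.K) :
    S.φ (g * a * g⁻¹) ∈ T.K := by
  have hmem : g * a * g⁻¹ ∈ P.Cm := mul_mem (mul_mem hg ha) (inv_mem hg)
  have e : (⟨g * a * g⁻¹, hmem⟩ : P.Cm) = ⟨g, hg⟩ * ⟨a, ha⟩ * ⟨g, hg⟩⁻¹ := rfl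
  refine (P.f_eq_one (a := ⟨g * a * g⁻¹, hmem⟩)).1 ?_
  rw [e, map_mul, map_mul, map_inv, (P.f_eq_one (a := ⟨a, ha⟩)).2 h, mul_one, mul_inv_cancel]

/-- No element of order three acts trivially on the other cover. -/
theorem no_three {a : M} (ha : a ∈ P.Cm) (h3 : a ^ 3 = 1) (h : S.φ a ∈ T.K) : a = 1 := by
  by_contra h1
  have h3' : (⟨a, ha⟩ : P.Cm) ^ 3 = 1 := Subtype.ext (by simpa using h3)
  have ho : orderOf (⟨a, ha⟩ : P.Cm) = 3 :=
    have : Fact (Nat.Prime 3) := ⟨Nat.prime_three⟩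
    orderOf_eq_prime h3' fun e => h1 (congrArg Subtype.val e)
  obtain ⟨g, hg⟩ := exists_conj_nine P.card_Cm P.card_nine
    (IsPGroup.of_card (p := 3) (n := 1) (G := zpowers (⟨a, ha⟩ : P.Cm)) (by
      rw [Nat.card_zpowers, ho, pow_one]))
  have hin := hg _ (mem_zpowers _)
  obtain ⟨i, k, hik⟩ := P.mem_nine.1 hin
  have hK : S.φ (P.cl ^ (i : ℕ) * P.xl ^ (k : ℕ)) ∈ T.K := hik ▸ P.conj_T_K g.2 ha h
  have hCm : P.cl ^ (i : ℕ) * P.xl ^ (k : ℕ) ∈ P.Cm := hik ▸ (g * ⟨a, ha⟩ * g⁻¹ : P.Cm).2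
  by_cases hi : i = 0
  · subst hi
    rw [Fin.val_zero, pow_zero, one_mul] at hK hCm hik
    by_cases hk : k = 0
    · subst hk
      rw [Fin.val_zero, pow_zero] at hik
      change (g : M) * a * (g : M)⁻¹ = 1 at hik
      exact h1 (conj_eq_one_iff.1 hik)
    have hxK : S.φ P.xl ∈ T.K := by
      have hk' : (k : ℕ) = 1 ∨ (k : ℕ) = 2 := by
        have h0 : (k : ℕ) ≠ 0 := fun e => hk (Fin.ext e)
        have := k.2
        omega
      rcases hk' with e | e
      · rwa [e, pow_one] at hK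
      · have := pow_mem hK 2
        rwa [e, ← map_pow, ← pow_mul, show 2 * 2 = 3 + 1 from rfl, pow_succ, P.xl_three, one_mul]
          at this
    obtain ⟨u, hu, hum⟩ := c.exists_u P.m_sq P.π_m
    have hux : Commute P.xl u := c.comm_of_odd (n := 3) (by decide) P.xl_three (by
      rw [P.π_xl, hu]; exact threes_comm.2.2.2.2.2.2.2.2.2.2.2.1.symm)
    obtain ⟨n, hn, hn2, hπn⟩ := P.pair.symm.exists_m
    obtain ⟨h0, hh0⟩ := c.exists_swap hn2 (by
      rw [hπn, P.hT]; exact fun e => absurd e (by decide))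
    have hxT : ∀ b, Commute (S.φ P.xl) (T.φ b) := fun b => (T.mem_K _).1 hxK b
    set e := (T.φ h0)⁻¹ * S.φ u with he
    have hxe : Commute (S.φ P.xl) e := (hxT h0).inv_right.mul_right (hux.map S.φ)
    have hez : e * T.z * e⁻¹ = S.z := by
      have e1 : S.φ u * T.z * (S.φ u)⁻¹ = T.z * S.z := by
        rw [← P.φ_m, ← map_inv, ← map_mul, ← map_mul, hum, map_mul]
        rfl
      have e2 : T.φ h0 * S.z * (T.φ h0)⁻¹ = S.z * T.z := by
        rw [← hn, ← map_inv, ← map_mul, ← map_mul, hh0, map_mul]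
        rfl
      calc e * T.z * e⁻¹ = (T.φ h0)⁻¹ * (S.φ u * T.z * (S.φ u)⁻¹) * T.φ h0 := by rw [he]; group
        _ = (T.φ h0)⁻¹ * (T.φ h0 * S.z * (T.φ h0)⁻¹) * T.φ h0 := by rw [e1, e2, P.pair.comm]
        _ = S.z := by group
    have hback := P.pair.back e hez
    choose β hβ using hback
    have hβinj : Function.Injective β := fun b b' hb =>
      T.inj ((MulAut.conj e).injective (by
        show e * T.φ b * e⁻¹ = e * T.φ b' * e⁻¹
        rw [hβ, hβ, hb]))
    have hall : ∀ r, P.xl * r = r * P.xl := by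
      intro r
      obtain ⟨b, rfl⟩ := (Finite.injective_iff_surjective.1 hβinj) r
      apply S.inj
      rw [map_mul, map_mul, ← hβ]
      exact ((hxe.mul_right (hxT b)).mul_right hxe.inv_right).eq
    obtain ⟨r, hr⟩ := c.exists_lift (p := p3 0 1 8) (mem_alternatingGroup.2 (by decide))
    have := congrArg c.π (hall r)
    rw [map_mul, map_mul, P.π_xl, hr] at this
    exact absurd this (by decide)
  · obtain ⟨b, hb, hbm⟩ := c.exists_b0 P.m_sq P.π_m
    have hbC : b ∈ P.Cm := P.mem_Cm.2 hbm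
    obtain ⟨hq, h4⟩ := b0_fact i k hi
    set a' := P.cl ^ (i : ℕ) * P.xl ^ (k : ℕ) with ha'
    have hπ : c.π ⁅b, a'⁆ = ⁅b0, cA ^ (i : ℕ) * xx ^ (k : ℕ)⁆ := by
      rw [map_commutatorElement, hb, P.π_nine rfl]
    have hN : S.φ ⁅b, a'⁆ ∈ T.K := by
      rw [commutatorElement_def, map_mul, map_inv]
      exact mul_mem (P.conj_T_K hbC hCm hK) (inv_mem hK)
    refine P.pair.notK' ?_
    rw [Base.z, ← c.sq_two ⁅b, a'⁆ (by rw [hπ]; exact hq) (by rw [hπ]; exact h4), map_mul]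
    exact mul_mem hN hN

theorem f_inj_nine : Function.Injective (P.f.comp P.nine.subtype) := by
  rw [injective_iff_map_eq_one]
  intro a ha
  obtain ⟨i, k, hik⟩ := P.mem_nine.1 a.2
  refine Subtype.ext (Subtype.ext (P.no_three a.1.2 ?_ (P.f_eq_one.1 ha)))
  rw [hik, (P.cl_xl.pow_pow _ _).mul_pow, ← pow_mul, ← pow_mul, mul_comm (i : ℕ),
    mul_comm (k : ℕ), pow_mul, pow_mul, P.cl_three, P.xl_three, one_pow, one_pow, one_mul]

theorem card_image : Nat.card (P.nine.map P.f) = 9 := by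
  rw [show P.nine.map P.f = (P.f.comp P.nine.subtype).range by
      rw [MonoidHom.range_eq_map, ← Subgroup.map_map, ← MonoidHom.range_eq_map, Subgroup.range_subtype],
    Nat.card_congr (MonoidHom.ofInjective P.f_inj_nine).toEquiv.symm, P.card_nine]

include P in
/-- The second factor has no square root of the involution. -/
theorem no_four {a : G} (ha : a ∈ S.K) : a * a ≠ S.z := by
  intro h
  obtain ⟨h3A, -, -, -, -, hA, -⟩ := threes_comm
  let q : centralizer ({s0} : Set P11) := ⟨cA, mem_cs0.2 hA⟩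
  have hq : q ^ 3 = 1 := Subtype.ext (by simpa [q] using h3A)
  have hdvd : Nat.card (centralizer ({s0} : Set P11)) ∣ 2 ^ 9 * 3 ^ 2 := by
    rw [card_centralizer_s0]; norm_num
  obtain ⟨i, -, hi⟩ := (Nat.dvd_prime_pow Nat.prime_three).1
    (show orderOf q ∣ 3 ^ 1 by rw [pow_one]; exact orderOf_dvd_of_pow_eq_one hq)
  obtain ⟨g, hg⟩ := exists_conj_nine hdvd P.card_image
    (IsPGroup.of_card (p := 3) (n := i) (G := zpowers q) (by rw [Nat.card_zpowers, hi]))
  obtain ⟨p, -, hp⟩ := hg q (mem_zpowers q)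
  have hp' : (P.f p : P11) = (g : P11) * cA * (g : P11)⁻¹ :=
    congrArg (fun w : centralizer ({s0} : Set P11) => (w : P11)) hp
  have hc := P.f_comm ha p
  rw [hp'] at hc
  have hay := P.pair.K_comm_y ha
  have hsq : T.ψ a * T.ψ a = s0 := by rw [← T.ψ_mul hay hay, h, P.hT]
  have hgs := mem_cs0.1 g.2
  refine no_root (k := (g : P11)⁻¹ * T.ψ a * g) ?_ ?_
  · calc (g : P11)⁻¹ * T.ψ a * g * cA = (g : P11)⁻¹ * (T.ψ a * (g * cA * (g : P11)⁻¹)) * g := by group
      _ = _ := by rw [hc]; group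
  · calc (g : P11)⁻¹ * T.ψ a * g * ((g : P11)⁻¹ * T.ψ a * g)
        = (g : P11)⁻¹ * (T.ψ a * T.ψ a * g) := by group
      _ = s0 := by rw [hsq, ← hgs]; group

end StdPair

variable [Finite G] {S T : Base c G}

/-- The second factor has no element of order four over the involution. -/
theorem Pair.no_four (hp : Pair S T) {a : G} (ha : a ∈ S.K) : a * a ≠ S.z := by
  have : Finite M := Finite.of_injective S.φ S.inj
  obtain ⟨S', T', ⟨P⟩, hz, -, hK, -⟩ := hp.exists_std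
  rw [← hz]
  exact P.no_four ((hK a).2 ha)

/-- The elements of two-power order of the second factor. -/
theorem Pair.two_power (hp : Pair S T) : ∀ (j : ℕ) {k : G}, k ∈ S.K → k ^ 2 ^ j = 1 →
    k = 1 ∨ k = S.z := by
  intro j
  induction j with
  | zero => intro k _ h; left; simpa using h
  | succ j ih =>
    intro k hk h
    rw [pow_succ', pow_mul] at h
    rcases ih (pow_mem hk 2) h with e | e
    · exact hp.involution_K hk (by rwa [← pow_two])
    · exact absurd (by rwa [← pow_two]) (hp.no_four hk)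

theorem StdPair.kernel (P : StdPair S T) {a : M} (ha : a ∈ P.Cm) (h : S.φ a ∈ T.K) :
    a = 1 ∨ a = P.m := by
  have : Finite M := Finite.of_injective S.φ S.inj
  have h1 : (a ^ 2 ^ 9) ^ 9 = 1 := by
    rw [← pow_mul, show 2 ^ 9 * 9 = 2 ^ 9 * 3 ^ 2 from rfl]
    obtain ⟨d, hd⟩ := P.card_Cm
    have := congrArg Subtype.val (pow_card_eq_one' (x := (⟨a, ha⟩ : P.Cm)))
    rw [Subgroup.coe_pow, Subgroup.coe_one] at this
    rw [hd, pow_mul, this, one_pow]
  have hb : a ^ 2 ^ 9 ∈ P.Cm := pow_mem ha _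
  have hbK : S.φ (a ^ 2 ^ 9) ∈ T.K := by rw [map_pow]; exact pow_mem h _
  have h3 : (a ^ 2 ^ 9) ^ 3 = 1 := P.no_three (pow_mem hb 3)
    (by rw [← pow_mul]; exact h1) (by rw [map_pow]; exact pow_mem hbK 3)
  have h4 : a ^ 2 ^ 9 = 1 := P.no_three hb h3 hbK
  rcases P.pair.symm.two_power 9 h (by rw [← map_pow, h4, map_one]) with e | e
  · exact Or.inl (S.inj (e.trans (map_one S.φ).symm))
  · exact Or.inr (S.inj (e.trans P.φ_m.symm))

theorem StdPair.odd_mem (P : StdPair S T) {k : G} (hk : k ∈ S.K) {n : ℕ} (hn : Odd n)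
    (hkn : k ^ n = 1) : k ∈ T.K := by
  have : Finite M := Finite.of_injective S.φ S.inj
  have hky := P.pair.K_comm_y hk
  let t : centralizer ({s0} : Set P11) := ⟨T.ψ k, mem_cs0.2 (by
    rw [← P.hT]; exact ψ_comm hky P.pair.comm (S.K_comm_z hk))⟩
  have hpow : ∀ j : ℕ, T.ψ (k ^ j) = T.ψ k ^ j := by
    intro j
    induction j with
    | zero => rw [pow_zero, pow_zero, T.ψ_one]
    | succ j ih => rw [pow_succ, pow_succ, T.ψ_mul (Commute.pow_left hky j) hky, ih]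
  have htn : t ^ n = 1 := Subtype.ext (by
    rw [Subgroup.coe_pow, Subgroup.coe_one]; show T.ψ k ^ n = 1
    rw [← hpow, hkn, T.ψ_one])
  have ht9 : t ^ 3 ^ 2 = 1 := by
    have h1 : orderOf t ∣ 2 ^ 8 * 3 ^ 2 := by
      have := orderOf_dvd_natCard t
      rwa [card_centralizer_s0] at this
    have h2 : Nat.Coprime (orderOf t) (2 ^ 8) := by
      apply Nat.Coprime.pow_right
      rw [Nat.coprime_comm, Nat.prime_two.coprime_iff_not_dvd]
      exact fun h2 => (Nat.not_even_iff_odd.2 hn)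
        (even_iff_two_dvd.2 (h2.trans (orderOf_dvd_of_pow_eq_one htn)))
    exact orderOf_dvd_iff_pow_eq_one.1 (h2.dvd_of_dvd_mul_left h1)
  have hnorm : t ∈ normalizer (P.nine.map P.f : Set (centralizer ({s0} : Set P11))) := by
    refine Subgroup.centralizer_le_normalizer _ (mem_centralizer_iff.2 ?_)
    rintro _ ⟨a, -, rfl⟩
    exact Subtype.ext (P.f_comm hk a).symm
  obtain ⟨p, hp, hpt⟩ := mem_of_comm_nine (by rw [card_centralizer_s0]; norm_num) P.card_image
    hnorm ht9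
  obtain ⟨i, j, hij⟩ := P.mem_nine.1 hp
  have hq : ∀ q : P.Cm, c.π ⁅(p : M), (q : M)⁆ = 1 ∨ c.π ⁅(p : M), (q : M)⁆ = s0 := by
    intro q
    have e : P.f ⁅p, q⁆ = 1 := by
      rw [map_commutatorElement, hpt, commutatorElement_eq_one_iff_mul_comm]
      exact Subtype.ext (P.f_comm hk q)
    have hmem := P.f_eq_one.1 e
    rcases P.kernel (⁅p, q⁆ : P.Cm).2 hmem with e' | e'
    · left
      rw [show (⁅(p : M), (q : M)⁆) = 1 from e', map_one]
    · right
      rw [show (⁅(p : M), (q : M)⁆) = P.m from e', P.π_m]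
  have hzero : (i, j) = ((0 : Fin 3), (0 : Fin 3)) := by
    by_contra hne
    obtain ⟨b, hb, hb3⟩ := c.exists_lift_three (threes_comm.2.1)
    obtain ⟨g, hg, hgm⟩ := c.exists_g0 P.m_sq P.π_m
    rcases p4_fact i j hne with ⟨r1, r2⟩ | ⟨r1, r2⟩
    · have := hq ⟨b, P.mem_Cm_of_three hb3 hb threes_comm.2.2.2.2.2.2.1⟩
      rw [map_commutatorElement, P.π_nine hij, hb] at this
      exact this.elim r1 r2
    · have := hq ⟨g, P.mem_Cm.2 hgm⟩
      rw [map_commutatorElement, P.π_nine hij, hg] at this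
      exact this.elim r1 r2
  obtain ⟨rfl, rfl⟩ := Prod.ext_iff.1 hzero
  have hp1 : p = 1 := Subtype.ext (by simpa using hij)
  rw [hp1, map_one] at hpt
  exact T.mem_K_of_ψ hky (congrArg Subtype.val hpt).symm

/-- Odd elements of one second factor lie in the other. -/
theorem Pair.odd_mem (hp : Pair S T) {k : G} (hk : k ∈ S.K) {n : ℕ} (hn : Odd n) (hkn : k ^ n = 1) :
    k ∈ T.K := by
  obtain ⟨S', T', ⟨P⟩, -, -, hK, hK'⟩ := hp.exists_std
  exact (hK' k).1 (P.odd_mem ((hK k).2 hk) hn hkn)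

end Base

end Cfsg.Agent.StdLy
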