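import Cfsg.Agent.StdLy.Final
import Cfsg.Prelude.Def_SporadicB
import Cfsg.Agent.S1225

/-!
A simple group with a standard double cover of the alternating group of degree eleven is the Lyons
group, given the identification by involution centralisers.
-/

set_option autoImplicit false

namespace Cfsg.Agent.StdLy

open Subgroup

universe u

/-- Transport of the notion along isomorphisms. -/
theorem nonsplit_congr {A B : Type*} [Group A] [Group B] (e : A ≃* B) {K : Type*} [Group K]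
    (h : Cfsg.IsNonsplitDoubleCover A K) : Cfsg.IsNonsplitDoubleCover B K := by
  obtain ⟨h1, ⟨f⟩, h3⟩ := h
  have hc : (Subgroup.center A).map e.toMonoidHom = Subgroup.center B := by
    ext b
    obtain ⟨a, rfl⟩ := e.surjective b
    constructor
    · rintro ⟨y, hy, hye⟩
      rw [e.injective hye] at hy
      rw [Subgroup.mem_center_iff]
      intro c
      obtain ⟨d, rfl⟩ := e.surjective c
      rw [← map_mul, ← map_mul, Subgroup.mem_center_iff.1 hy d]
    · intro hb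
      refine ⟨a, Subgroup.mem_center_iff.2 fun d => e.injective ?_, rfl⟩
      rw [map_mul, map_mul]
      exact Subgroup.mem_center_iff.1 hb (e d)
  refine ⟨?_, ⟨(QuotientGroup.congr _ _ e hc).symm.trans f⟩, fun L hL => ?_⟩
  · rw [← hc, Subgroup.card_map_of_injective e.injective]
    exact h1
  · refine h3 (L.comap e.toMonoidHom) ?_
    rw [Subgroup.isComplement'_def] at hL ⊢
    refine ⟨fun p q hpq => ?_, fun a => ?_⟩
    · have hm : ∀ x : Subgroup.center A, e (x : A) ∈ Subgroup.center B :=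
        fun x => hc ▸ Subgroup.mem_map_of_mem _ x.2
      have := @hL.1 (⟨e p.1, hm p.1⟩, ⟨e p.2, p.2.2⟩) (⟨e q.1, hm q.1⟩, ⟨e q.2, q.2.2⟩)
        (by show e _ * e _ = e _ * e _; rw [← map_mul, ← map_mul]; exact congrArg e hpq)
      exact Prod.ext (Subtype.ext (e.injective (congrArg Subtype.val (congrArg Prod.fst this))))
        (Subtype.ext (e.injective (congrArg Subtype.val (congrArg Prod.snd this))))
    · obtain ⟨⟨⟨z, hz⟩, ⟨l, hl⟩⟩, hzl : z * l = e a⟩ := hL.2 (e a)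
      obtain ⟨y, hy, rfl⟩ := (hc ▸ hz : z ∈ (Subgroup.center A).map e.toMonoidHom)
      obtain ⟨m, rfl⟩ := e.surjective l
      refine ⟨(⟨y, hy⟩, ⟨m, hl⟩), e.injective ?_⟩
      show e (y * m) = e a
      rw [map_mul]
      exact hzl

namespace Base.Full

variable {M : Type u} [Group M] {c : Cov M} {G : Type u} [Group G] [Finite G] [IsSimpleGroup G]
  {S : Base c G} (F : Full S) (hG : ¬ IsMulCommutative G)

include F hG

theorem stronglyEmbedded (hX : F.X ≠ ⊥) : Cfsg.IsStronglyEmbedded F.H := by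
  have : Fact (Nat.Prime 2) := ⟨Nat.prime_two⟩
  have hord : orderOf S.z = 2 := orderOf_eq_prime (by rw [pow_two, S.z_sq]) S.z_ne
  refine ⟨fun h => ?_, even_iff_two_dvd.2 ?_, fun g hg => ?_⟩
  · have : F.X.Normal := normalizer_eq_top_iff.1 h
    have htop := (this.eq_bot_or_eq_top).resolve_left hX
    have hz := ((F.mem_X S.z).1 (htop ▸ mem_top _)).2
    rw [hord] at hz
    exact absurd hz (by decide)
  · rw [← hord, ← Subgroup.orderOf_mk S.z F.z_mem_H]
    exact orderOf_dvd_natCard _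
  · by_contra hodd
    rw [Nat.not_odd_iff_even, even_iff_two_dvd] at hodd
    obtain ⟨x, hx⟩ := exists_prime_orderOf_dvd_card' 2 hodd
    rw [← Subgroup.orderOf_coe] at hx
    obtain ⟨⟨t, htH, htg⟩, ht2⟩ : ∃ x : (F.H ⊓ F.H.map (MulAut.conj g).toMonoidHom : Subgroup G),
        orderOf (x : G) = 2 := ⟨x, hx⟩
    change orderOf t = 2 at ht2
    obtain ⟨t', ht'H, rfl⟩ := htg
    change orderOf ((MulAut.conj g) t') = 2 at ht2
    rw [(MulAut.conj g).orderOf_eq] at ht2
    have h2 : t' * t' = 1 := by rw [← pow_two, ← ht2, pow_orderOf_eq_one]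
    have h1 : t' ≠ 1 := fun e => by rw [e, orderOf_one] at ht2; omega
    obtain ⟨h', hh', e'⟩ := F.H_invol hG ht'H h2 h1
    obtain ⟨h, hh, e⟩ := F.H_invol hG htH
      (show g * t' * g⁻¹ * (g * t' * g⁻¹) = 1 by
        rw [show g * t' * g⁻¹ * (g * t' * g⁻¹) = g * (t' * t') * g⁻¹ by group, h2]; group)
      (fun e => h1 (conj_eq_one_iff.1 e))
    have hc : h⁻¹ * g * h' * S.z = S.z * (h⁻¹ * g * h') := by
      rw [← mul_inv_eq_iff_eq_mul]
      calc h⁻¹ * g * h' * S.z * (h⁻¹ * g * h')⁻¹ = h⁻¹ * (g * (h' * S.z * h'⁻¹) * g⁻¹) * h := by group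
        _ = h⁻¹ * (h * S.z * h⁻¹) * h := by rw [e', e]; rfl
        _ = S.z := by group
    refine hg ?_
    have := mul_mem (mul_mem hh (F.cent_le_H hc)) (inv_mem hh')
    rwa [show h * (h⁻¹ * g * h') * h'⁻¹ = g by group] at this

/-- The odd part is trivial. -/
theorem X_eq_bot (hM : Cfsg.IsNonsplitDoubleCover M (alternatingGroup (Fin 11)))
    (hLy : ∀ (Q : Type u) [Group Q] [Finite Q] [IsSimpleGroup Q] (t : Q), orderOf t = 2 →
      Cfsg.IsNonsplitDoubleCover (centralizer ({t} : Set Q)) (alternatingGroup (Fin 11)) →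
        Cfsg.Spor.IsoLy Q)
    (hNo : ∀ (Q : Type u) [Group Q] [Finite Q], Cfsg.Spor.IsoLy Q → ∀ D : Subgroup Q,
      Odd (Nat.card D) → ∀ t : Q, orderOf t = 2 →
        (∀ g : Q, ∃ d ∈ D, d * t * d⁻¹ = g * t * g⁻¹) → False) : F.X = ⊥ := by
  classical
  by_contra hX
  have : Fact (Nat.Prime 2) := ⟨Nat.prime_two⟩
  have hse := F.stronglyEmbedded hG hX
  set Y : Subgroup F.H := F.X.subgroupOf F.H with hY
  have hYn : Y.Normal := ⟨fun x hx h => (mem_normalizer_iff.1 h.2 (x : G)).1 hx⟩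
  have hz : S.z ∈ F.H := F.z_mem_H
  set zb : F.H ⧸ Y := QuotientGroup.mk' Y ⟨S.z, hz⟩ with hzb
  have hordz : orderOf S.z = 2 := orderOf_eq_prime (by rw [pow_two, S.z_sq]) S.z_ne
  have hzX : S.z ∉ F.X := fun h => S.z_ne (F.X_no_invol h S.z_sq)
  have hzb1 : zb ≠ 1 := fun h => hzX ((QuotientGroup.eq_one_iff (N := Y) _).1 h)
  have hzb2 : orderOf zb = 2 := orderOf_eq_prime (by
    rw [hzb, ← map_pow, ← map_one (QuotientGroup.mk' Y)]
    exact congrArg _ (Subtype.ext (by simp [pow_two, S.z_sq]))) hzb1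
  have : Nontrivial (F.H ⧸ Y) := ⟨⟨zb, 1, hzb1⟩⟩
  have : IsSimpleGroup (F.H ⧸ Y) := ⟨fun N hN => by
    set N' : Subgroup G := (N.comap (QuotientGroup.mk' Y)).map F.H.subtype with hN'
    have h1 : F.X ≤ N' := fun x hx => ⟨⟨x, F.X_le_H hx⟩, by
      rw [SetLike.mem_coe, mem_comap, QuotientGroup.mk'_apply,
        (QuotientGroup.eq_one_iff (N := Y) _).2 (mem_subgroupOf.2 hx)]
      exact one_mem _, rfl⟩
    have h2 : F.H ≤ normalizer (N' : Set G) := by
      intro h hh
      refine mem_normalizer_iff.2 fun n => ⟨?_, fun hn => ?_⟩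
      · rintro ⟨k, hk, rfl⟩
        exact ⟨⟨h, hh⟩ * k * ⟨h, hh⟩⁻¹, (hN.comap _).conj_mem k hk _, rfl⟩
      · obtain ⟨k, hk, hkn⟩ := hn
        refine ⟨⟨h, hh⟩⁻¹ * k * ⟨h, hh⟩⁻¹⁻¹, (hN.comap _).conj_mem k hk _, ?_⟩
        show h⁻¹ * (k : G) * h⁻¹⁻¹ = n
        rw [show (k : G) = h * n * h⁻¹ from hkn]
        group
    rcases F.H_normal hG N' h1 (map_subtype_le _) h2 with e | e
    · left
      refine (eq_bot_iff_forall _).2 fun q hq => ?_
      obtain ⟨k, rfl⟩ := QuotientGroup.mk'_surjective Y q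
      exact (QuotientGroup.eq_one_iff (N := Y) _).2
        (mem_subgroupOf.2 (e ▸ (⟨k, hq, rfl⟩ : (k : G) ∈ N')))
    · right
      refine eq_top_iff.2 fun q _ => ?_
      obtain ⟨k, rfl⟩ := QuotientGroup.mk'_surjective Y q
      obtain ⟨k', hk', hkk⟩ : (k : G) ∈ N' := e.symm ▸ k.2
      rw [← Subtype.ext (p := fun x => x ∈ F.H) (a1 := k') (a2 := k) hkk]
      exact hk'⟩
  let f : M →* centralizer ({zb} : Set (F.H ⧸ Y)) :=
    ((QuotientGroup.mk' Y).comp (S.φ.codRestrict F.H F.φ_mem_H)).codRestrict _ fun a =>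
      mem_centralizer_singleton_iff.2 (by
        rw [MonoidHom.comp_apply, hzb, ← map_mul, ← map_mul]
        exact congrArg _ (Subtype.ext (S.φ_comm_z a)))
  have hf : Function.Bijective f := by
    refine ⟨(injective_iff_map_eq_one f).2 fun a ha => F.X_disjoint
      ((QuotientGroup.eq_one_iff (N := Y) _).1 (congrArg Subtype.val ha)), fun q => ?_⟩
    obtain ⟨⟨h, hh⟩, hq⟩ := QuotientGroup.mk'_surjective Y (q : F.H ⧸ Y)
    have hc := mem_centralizer_singleton_iff.1 q.2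
    rw [← hq, hzb, ← map_mul, ← map_mul, QuotientGroup.mk'_apply, QuotientGroup.mk'_apply,
      QuotientGroup.eq] at hc
    have hx : (h * S.z)⁻¹ * (S.z * h) ∈ F.X := hc
    have hx' : h * S.z * h⁻¹ * S.z ∈ F.X := by
      have h' := inv_mem hx
      rw [show ((h * S.z)⁻¹ * (S.z * h))⁻¹ = h⁻¹ * S.z⁻¹ * h * S.z by group,
        inv_eq_of_mul_eq_one_right S.z_sq] at h'
      have := inv_mem ((mem_normalizer_iff.1 hh _).1 h')
      rwa [show (h * (h⁻¹ * S.z * h * S.z) * h⁻¹)⁻¹ = h * S.z⁻¹ * h⁻¹ * S.z⁻¹ by group,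
        inv_eq_of_mul_eq_one_right S.z_sq] at this
    set x := h * S.z * h⁻¹ * S.z with hxdef
    have hxz := F.X_comm_z hx'
    have hx2 : x * x = 1 := by
      have e1 : x * S.z = h * S.z * h⁻¹ := by rw [hxdef, mul_assoc, S.z_sq, mul_one]
      calc x * x = x * x * (S.z * S.z) := by rw [S.z_sq, mul_one]
        _ = x * (x * S.z) * S.z := by group
        _ = x * (S.z * x) * S.z := by rw [hxz]
        _ = x * S.z * (x * S.z) := by group
        _ = 1 := by
          rw [e1, show h * S.z * h⁻¹ * (h * S.z * h⁻¹) = h * (S.z * S.z) * h⁻¹ by group, S.z_sq]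
          group
    have hx1 := F.X_no_invol hx' hx2
    have hcz : h * S.z = S.z * h := by
      rw [hxdef, mul_eq_one_iff_eq_inv, inv_eq_of_mul_eq_one_right S.z_sq] at hx1
      exact mul_inv_eq_iff_eq_mul.1 hx1
    obtain ⟨a, x', hx'', hax⟩ := F.decomp hG hcz
    refine ⟨a, Subtype.ext ?_⟩
    rw [← hq]
    show QuotientGroup.mk' Y ⟨S.φ a, F.φ_mem_H a⟩ = _
    rw [QuotientGroup.mk'_apply, QuotientGroup.mk'_apply, QuotientGroup.eq, mem_subgroupOf]
    show (S.φ a)⁻¹ * h ∈ F.X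
    rw [hax, inv_mul_cancel_left]
    exact hx''
  have hQ : Cfsg.Spor.IsoLy (F.H ⧸ Y) :=
    hLy _ zb hzb2 (nonsplit_congr (MulEquiv.ofBijective f hf) hM)
  -- an involution outside
  obtain ⟨g, hg⟩ : ∃ g : G, g * S.z * g⁻¹ ∉ F.H := by
    by_contra hcon
    push Not at hcon
    refine hse.1 (eq_top_iff.2 ?_)
    have h1 : normalClosure ({S.z} : Set G) ≤ F.H := by
      rw [normalClosure, closure_le]
      intro t ht
      obtain ⟨a, ha, hc⟩ := Group.mem_conjugatesOfSet_iff.1 ht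
      rw [Set.mem_singleton_iff] at ha
      subst ha
      obtain ⟨w, hw⟩ := isConj_iff.1 hc
      exact hw ▸ hcon w
    refine le_trans ?_ h1
    rw [(normalClosure_normal (s := ({S.z} : Set G))).eq_bot_or_eq_top.resolve_left fun e =>
      S.z_ne ((eq_bot_iff_forall _).1 e _ (subset_normalClosure (Set.mem_singleton _)))]
  set w := g * S.z * g⁻¹ with hw
  have hwo : orderOf w = 2 := ((MulAut.conj g).orderOf_eq S.z).trans hordz
  set D := F.H ⊓ F.H.map (MulAut.conj w).toMonoidHom with hD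
  have hDodd : Odd (Nat.card D) := hse.2.2 w hg
  let DQ : Subgroup (F.H ⧸ Y) := (D.subgroupOf F.H).map (QuotientGroup.mk' Y)
  have hDQ : Odd (Nat.card DQ) := by
    refine Odd.of_dvd_nat ?_ (card_map_dvd _ _)
    rw [Nat.card_congr (subgroupOfEquivOfLe inf_le_left).toEquiv]
    exact hDodd
  refine hNo _ hQ DQ hDQ zb hzb2 fun q => ?_
  obtain ⟨⟨h, hh⟩, rfl⟩ := QuotientGroup.mk'_surjective Y q
  obtain ⟨d, hd, hdz⟩ := (S1225.result F.H hse w hwo hg S.z (h * S.z * h⁻¹) hordz hz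
    (((MulAut.conj h).orderOf_eq S.z).trans hordz) (mul_mem (mul_mem hh hz) (inv_mem hh))).1
  refine ⟨QuotientGroup.mk' Y ⟨d, hd.1⟩, ⟨⟨d, hd.1⟩, hd, rfl⟩, ?_⟩
  rw [hzb, ← map_inv, ← map_inv, ← map_mul, ← map_mul, ← map_mul, ← map_mul]
  exact congrArg _ (Subtype.ext hdz)

/-- The group is the Lyons group. -/
theorem isoLy (hM : Cfsg.IsNonsplitDoubleCover M (alternatingGroup (Fin 11)))
    (hLy : ∀ (Q : Type u) [Group Q] [Finite Q] [IsSimpleGroup Q] (t : Q), orderOf t = 2 →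
      Cfsg.IsNonsplitDoubleCover (centralizer ({t} : Set Q)) (alternatingGroup (Fin 11)) →
        Cfsg.Spor.IsoLy Q)
    (hNo : ∀ (Q : Type u) [Group Q] [Finite Q], Cfsg.Spor.IsoLy Q → ∀ D : Subgroup Q,
      Odd (Nat.card D) → ∀ t : Q, orderOf t = 2 →
        (∀ g : Q, ∃ d ∈ D, d * t * d⁻¹ = g * t * g⁻¹) → False) : Cfsg.Spor.IsoLy G := by
  have : Fact (Nat.Prime 2) := ⟨Nat.prime_two⟩
  have hX := F.X_eq_bot hG hM hLy hNo
  let f : M →* centralizer ({S.z} : Set G) :=
    S.φ.codRestrict _ fun a => mem_centralizer_singleton_iff.2 (S.φ_comm_z a)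
  have hf : Function.Bijective f := by
    refine ⟨fun a b h => S.inj (congrArg Subtype.val h), fun q => ?_⟩
    obtain ⟨a, x, hx, hax⟩ := F.decomp hG (mem_centralizer_singleton_iff.1 q.2)
    rw [hX, mem_bot] at hx
    exact ⟨a, Subtype.ext (by rw [hax, hx, mul_one]; rfl)⟩
  exact hLy G S.z (orderOf_eq_prime (by rw [pow_two, S.z_sq]) S.z_ne)
    (nonsplit_congr (MulEquiv.ofBijective f hf) hM)

end Base.Full

/-- The reduction of the standard component statement to the centraliser recognition. -/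
theorem isoLy_of_standard {G : Type u} [Group G] [Finite G] [IsSimpleGroup G]
    (hG : ¬ IsMulCommutative G) (L : Subgroup G) (hL : Cfsg.IsStandardSubgroup L)
    (hLX : Cfsg.IsNonsplitDoubleCover ↥L ↥(alternatingGroup (Fin 11)))
    (hLy : ∀ (Q : Type u) [Group Q] [Finite Q] [IsSimpleGroup Q] (t : Q), orderOf t = 2 →
      Cfsg.IsNonsplitDoubleCover (centralizer ({t} : Set Q)) (alternatingGroup (Fin 11)) →
        Cfsg.Spor.IsoLy Q)
    (hNo : ∀ (Q : Type u) [Group Q] [Finite Q], Cfsg.Spor.IsoLy Q → ∀ D : Subgroup Q,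
      Odd (Nat.card D) → ∀ t : Q, orderOf t = 2 →
        (∀ g : Q, ∃ d ∈ D, d * t * d⁻¹ = g * t * g⁻¹) → False) : Cfsg.Spor.IsoLy G := by
  obtain ⟨c, S, g, hc, hne⟩ := exists_base hG L hL hLX
  obtain ⟨F⟩ := Base.exists_full S hc hne
  exact F.isoLy hG hLX hLy hNo

end Cfsg.Agent.StdLy
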