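import Cfsg.Agent.StdLy.Base
import Mathlib.GroupTheory.Sylow

/-!
Two commuting conjugates of the involution: each lies in the other cover and the odd parts of the
centralisers of the covers agree.
-/

set_option autoImplicit false
set_option maxRecDepth 100000

namespace Cfsg.Agent.StdLy

open Equiv Equiv.Perm Subgroup
open scoped commutatorElement

theorem mem_alt_of_eight {σ : P11} (h : σ * σ = 1) (h8 : σ.support.card = 8) :
    σ ∈ alternatingGroup (Fin 11) := by
  obtain ⟨g, rfl⟩ := exists_conj_of_card s0_sq h (s0_card.trans h8.symm)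
  exact (inferInstance : (alternatingGroup (Fin 11)).Normal).conj_mem s0
    (mem_alternatingGroup.2 (by decide)) g

theorem perfect_le_alt {R : Subgroup P11} (hR : ⁅R, R⁆ = R) : R ≤ alternatingGroup (Fin 11) := by
  rw [← hR, Subgroup.commutator_le]
  intro p _ q _
  rw [mem_alternatingGroup, map_commutatorElement]
  exact commutatorElement_eq_one_iff_mul_comm.2 (mul_comm _ _)

namespace Base

variable {M : Type*} [Group M] {c : Cov M} {G : Type*} [Group G]

/-- Two configurations with commuting involutions. -/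
structure Pair (S T : Base c G) : Prop where
  comm : S.z * T.z = T.z * S.z
  notK : T.z ∉ S.K
  notK' : S.z ∉ T.K
  back : ∀ g : G, g * T.z * g⁻¹ = S.z → ∀ a, ∃ b, g * T.φ a * g⁻¹ = S.φ b
  back' : ∀ g : G, g * S.z * g⁻¹ = T.z → ∀ a, ∃ b, g * S.φ a * g⁻¹ = T.φ b

variable {S T : Base c G}

theorem Pair.symm (h : Pair S T) : Pair T S := ⟨h.comm.symm, h.notK', h.notK, h.back', h.back⟩

theorem pair_conj (S : Base c G) {g : G} (hc : g * S.z * g⁻¹ * S.z = S.z * (g * S.z * g⁻¹))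
    (hne : g * S.z * g⁻¹ ≠ S.z) : Pair S (S.conj g) where
  comm := hc.symm
  notK h := hne (S.uniq g h)
  notK' h := by
    rw [conj_mem_K] at h
    have e := S.uniq g⁻¹ (by rwa [inv_inv])
    rw [inv_inv] at e
    refine hne ?_
    calc g * S.z * g⁻¹ = g * (g⁻¹ * S.z * g) * g⁻¹ := congrArg (fun w => g * w * g⁻¹) e.symm
      _ = S.z := by group
  back h hh a := by
    rw [conj_z] at hh
    have hc : h * g * S.z = S.z * (h * g) := by
      rw [← mul_inv_eq_iff_eq_mul]
      calc h * g * S.z * (h * g)⁻¹ = h * (g * S.z * g⁻¹) * h⁻¹ := by group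
        _ = S.z := hh
    obtain ⟨b, hb, -⟩ := S.spec (h * g) hc a
    exact ⟨b, by rw [← hb, conj_φ]; group⟩
  back' h hh a := by
    rw [conj_z] at hh
    have hc : g⁻¹ * h * S.z = S.z * (g⁻¹ * h) := by
      rw [← mul_inv_eq_iff_eq_mul]
      calc g⁻¹ * h * S.z * (g⁻¹ * h)⁻¹ = g⁻¹ * (h * S.z * h⁻¹) * g := by group
        _ = S.z := by rw [hh]; group
    obtain ⟨b, hb, -⟩ := S.spec (g⁻¹ * h) hc a
    exact ⟨b, by rw [conj_φ, ← hb]; group⟩

theorem conj_z_of_comm (S : Base c G) {h : G} (hh : h * S.z = S.z * h) : (S.conj h).z = S.z := by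
  rw [conj_z, hh, mul_inv_cancel_right]

theorem conj_K_of_comm (S : Base c G) {h : G} (hh : h * S.z = S.z * h) (k : G) :
    k ∈ (S.conj h).K ↔ k ∈ S.K := by
  have key : ∀ {x : G}, x * S.z = S.z * x → ∀ {r : G}, r ∈ S.K → x * r * x⁻¹ ∈ S.K := by
    intro x hx r hr
    have hr' := S.K_comm_z hr
    refine S.mem_K_of_ψ (Commute.mul_left (Commute.mul_left hx hr') (Commute.inv_left hx)) ?_
    rw [S.ψ_mul (Commute.mul_left hx hr') (Commute.inv_left hx), S.ψ_mul hx hr', S.ψ_K hr,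
      S.ψ_inv hx, mul_one, mul_inv_cancel]
  rw [conj_mem_K]
  refine ⟨fun hk => ?_, fun hk => ?_⟩
  · have := key hh hk
    rwa [show h * (h⁻¹ * k * h) * h⁻¹ = k by group] at this
  · have := key (Commute.inv_left hh) hk
    rwa [inv_inv] at this

/-- A configuration may be changed by an element fixing its involution. -/
theorem Pair.twist (hp : Pair S T) {h : G} (hh : h * T.z = T.z * h) : Pair S (T.conj h) where
  comm := by rw [conj_z_of_comm T hh]; exact hp.comm
  notK := by rw [conj_z_of_comm T hh]; exact hp.notK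
  notK' e := hp.notK' ((conj_K_of_comm T hh _).1 e)
  back g hg a := by
    rw [conj_z_of_comm T hh] at hg
    have hg' : g * h * T.z * (g * h)⁻¹ = S.z := by
      rw [mul_assoc g h, hh, ← hg]
      group
    obtain ⟨b, hb⟩ := hp.back (g * h) hg' a
    exact ⟨b, by rw [← hb, conj_φ]; group⟩
  back' g hg a := by
    rw [conj_z_of_comm T hh] at hg
    obtain ⟨b, hb⟩ := hp.back' g hg a
    obtain ⟨d, hd, -⟩ := T.spec h⁻¹ (Commute.inv_left hh) b
    refine ⟨d, ?_⟩
    rw [conj_φ, ← hd, hb]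
    group

theorem ψ_sq {g : G} (hg : g * S.z = S.z * g) (h2 : g * g = 1) : S.ψ g * S.ψ g = 1 := by
  rw [← S.ψ_mul hg hg, h2, S.ψ_one]

theorem ψ_comm {g h : G} (hg : g * S.z = S.z * g) (hh : h * S.z = S.z * h) (e : g * h = h * g) :
    S.ψ g * S.ψ h = S.ψ h * S.ψ g := by
  rw [← S.ψ_mul hg hh, ← S.ψ_mul hh hg, e]

/-- The other involution induces an involution on eight points. -/
theorem Pair.type_eight (hp : Pair S T) : (S.ψ T.z).support.card = 8 := by
  by_contra h8
  have hy : T.z * S.z = S.z * T.z := hp.comm.symm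
  obtain ⟨W⟩ := exists_witness (ψ_sq hy T.z_sq) h8
  obtain ⟨hR, hzR, hmap⟩ := c.witness_preimage W
  have hcomm := S.comm_of_perfect hy hR fun a ha => (W.comm _ ha).symm
  let f : W.Q.comap c.π →* P11 := MonoidHom.mk' (fun a => T.ψ (S.φ a)) fun a b => by
    rw [Subgroup.coe_mul, map_mul, T.ψ_mul (hcomm a a.2).symm (hcomm b b.2).symm]
  have htop : ⁅(⊤ : Subgroup (W.Q.comap c.π)), (⊤ : Subgroup (W.Q.comap c.π))⁆ = ⊤ := by
    apply Subgroup.map_injective (Subgroup.subtype_injective _)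
    rw [Subgroup.map_commutator, ← MonoidHom.range_eq_map, Subgroup.range_subtype, hR]
  set Q := (⊤ : Subgroup (W.Q.comap c.π)).map f with hQdef
  have hQ : ⁅Q, Q⁆ = Q := by rw [hQdef, ← Subgroup.map_commutator, htop]
  have hle : Q ≤ centralizer ({T.ψ S.z} : Set P11) := by
    rintro _ ⟨a, -, rfl⟩
    exact mem_centralizer_singleton_iff.2
      (ψ_comm (hcomm a a.2).symm hp.comm (S.φ_comm_z _))
  have hzQ : T.ψ S.z ∈ Q := ⟨⟨c.z, hzR⟩, mem_top _, rfl⟩
  have h1 : T.ψ S.z ≠ 1 := fun e => hp.notK' (T.mem_K_of_ψ hp.comm e)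
  have h2 := ψ_sq hp.comm S.z_sq
  rcases even_cases h2 (perfect_le_alt hQ hzQ) h1 with h4 | h8'
  · exact perfect_four h4 Q hQ hle hzQ
  · rw [perfect_eight h2 h8' Q hQ hle, mem_bot] at hzQ
    exact h1 hzQ

/-- The only involution centralising the cover and the other involution is the first one. -/
theorem Pair.eq_z (hp : Pair S T) {k : G} (hk : k ∈ S.K) (h2 : k * k = 1) (h1 : k ≠ 1)
    (hky : k * T.z = T.z * k) : k = S.z := by
  have h8 : (T.ψ k).support.card = 8 := by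
    by_contra h8
    obtain ⟨W⟩ := exists_witness (ψ_sq hky h2) h8
    obtain ⟨hR, -, hmap⟩ := c.witness_preimage W
    have hc := T.comm_of_perfect hky hR fun a ha => (W.comm _ ha).symm
    have hle : W.Q ≤ centralizer ({T.ψ S.z} : Set P11) := by
      rw [← hmap]
      rintro _ ⟨a, ha, rfl⟩
      rw [mem_centralizer_singleton_iff, ← T.ψ_φ a]
      exact ψ_comm (T.φ_comm_z a) hp.comm (S.small k hk h2 h1 _ (hc a ha).symm)
    have hd := W.d_mem
    rw [perfect_eight (ψ_sq hp.comm S.z_sq) hp.symm.type_eight W.Q W.perfect hle, mem_bot] at hd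
    have := W.d_card
    rw [hd, support_one, Finset.card_empty] at this
    omega
  obtain ⟨g, hg, hgs⟩ := exists_conj_alt (ψ_sq hky h2) s0_sq (fun e => by simp [e] at h8)
    (h8.trans s0_card.symm)
  obtain ⟨g, rfl⟩ := c.exists_lift hg
  have hh : T.φ g⁻¹ * T.z = T.z * T.φ g⁻¹ := T.φ_comm_z _
  set T' := T.conj (T.φ g⁻¹) with hT'
  have hp' : Pair S T' := hp.twist hh
  have hT'z : T'.z = T.z := conj_z_of_comm T hh
  have hky' : k * T'.z = T'.z * k := by rw [hT'z]; exact hky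
  have hτ : T'.ψ k = s0 := by
    rw [hT', conj_ψ, map_inv, inv_inv, T.ψ_mul (Commute.mul_left (T.φ_comm_z g) hky)
      (Commute.inv_left (T.φ_comm_z g)), T.ψ_mul (T.φ_comm_z g) hky,
      T.ψ_inv (T.φ_comm_z g), T.ψ_φ, hgs]
  have hthree : ∀ p : P11, p ^ 3 = 1 → p * s0 = s0 * p → T'.ψ S.z * p = p * T'.ψ S.z := by
    intro p h3 hps
    obtain ⟨a, ha, ha3⟩ := c.exists_lift_three h3
    obtain ⟨b, hb, hb'⟩ := T'.spec k hky' a
    rw [hτ, ha, ← hps, mul_inv_cancel_right] at hb'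
    have hb3 : b ^ 3 = 1 := T'.inj (by
      rw [map_pow, ← hb, conj_pow, ← map_pow, ha3, map_one, mul_one, mul_inv_cancel])
    rcases c.lift_cases (hb'.trans ha.symm) with rfl | rfl
    · rw [← ha, ← T'.ψ_φ b]
      exact (ψ_comm (T'.φ_comm_z b) hp'.comm
        (S.small k hk h2 h1 _ (mul_inv_eq_iff_eq_mul.1 hb).symm)).symm
    · exfalso
      rw [(show Commute a c.z from c.z_comm a).mul_pow, ha3, one_mul, pow_succ, pow_two, c.z_sq,
        one_mul] at hb3
      exact c.z_ne hb3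
  obtain ⟨h3A, h3B, h3C, h3D, h3x, hA, hB, hC, hD, hx, -, -, -⟩ := threes_comm
  have hz : T'.ψ S.z = s0 := eq_s0 (ψ_sq hp'.comm S.z_sq) hp'.symm.type_eight
    (hthree _ h3x hx) (hthree _ h3A hA) (hthree _ h3B hB) (hthree _ h3C hC) (hthree _ h3D hD)
  by_contra hne
  have hkz : k * S.z = S.z * k := S.K_comm_z hk
  have hj2 : S.z * k * (S.z * k) = 1 := by
    rw [mul_assoc, ← mul_assoc k, hkz, mul_assoc S.z k k, h2, mul_one, S.z_sq]
  have hj1 : S.z * k ≠ 1 := fun e => hne (by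
    rw [← one_mul k, ← S.z_sq, mul_assoc, e, mul_one])
  have hjK : S.z * k ∈ T'.K := T'.mem_K_of_ψ (Commute.mul_left hp'.comm hky')
    (by rw [T'.ψ_mul hp'.comm hky', hz, hτ, s0_sq])
  exact hp'.notK' ((T'.mem_K _).2 fun a => (S.small _ (mul_mem S.z_mem_K hk) hj2 hj1 _
    ((T'.mem_K _).1 hjK a).symm).symm)

/-- The other involution lies in the cover. -/
theorem Pair.exists_m (hp : Pair S T) : ∃ m, S.φ m = T.z ∧ m * m = 1 ∧ c.π m = S.ψ T.z := by
  have hy : T.z * S.z = S.z * T.z := hp.comm.symm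
  have h2 := ψ_sq hy T.z_sq
  obtain ⟨a, k, hk, hak, ha⟩ := S.exists_split hy (mem_alt_of_eight h2 hp.type_eight)
  have ha2 : a * a = 1 := c.sq_eight (by rw [ha]; exact h2) (by rw [ha]; exact hp.type_eight)
  have hk2 : k * k = 1 := by
    calc k * k = S.φ (a * a) * (k * k) := by rw [ha2, map_one, one_mul]
      _ = S.φ a * (S.φ a * k) * k := by rw [map_mul]; group
      _ = S.φ a * (k * S.φ a) * k := by rw [S.K_comm hk a]
      _ = S.φ a * k * (S.φ a * k) := by group
      _ = 1 := by rw [← hak, T.z_sq]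
  by_cases hk1 : k = 1
  · exact ⟨a, by rw [hak, hk1, mul_one], ha2, ha⟩
  have hky : k * T.z = T.z * k := by rw [hak, ← mul_assoc, S.K_comm hk a]
  refine ⟨a * c.z, ?_, (c.mul_z_sq a).trans ha2, by rw [map_mul, c.π_z, mul_one, ha]⟩
  rw [hak, hp.eq_z hk hk2 hk1 hky, map_mul]
  rfl

theorem Pair.K_comm_y (hp : Pair S T) {k : G} (hk : k ∈ S.K) : k * T.z = T.z * k := by
  obtain ⟨m, hm, -, -⟩ := hp.exists_m
  rw [← hm, S.K_comm hk]

theorem Pair.involution_K (hp : Pair S T) {k : G} (hk : k ∈ S.K) (h2 : k * k = 1) :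
    k = 1 ∨ k = S.z :=
  (em (k = 1)).imp_right fun h1 => hp.eq_z hk h2 h1 (hp.K_comm_y hk)

/-- Adjust the first configuration so that the other involution becomes standard. -/
theorem Pair.exists_twist (hp : Pair S T) :
    ∃ S' : Base c G, Pair S' T ∧ S'.z = S.z ∧ (∀ k, k ∈ S'.K ↔ k ∈ S.K) ∧ S'.ψ T.z = s0 := by
  have h2 := ψ_sq hp.comm.symm T.z_sq
  obtain ⟨g, hg, hgs⟩ := exists_conj_alt h2 s0_sq (fun e => by
    have := hp.type_eight
    simp [e] at this) (hp.type_eight.trans s0_card.symm)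
  obtain ⟨g, rfl⟩ := c.exists_lift hg
  have hh : S.φ g⁻¹ * S.z = S.z * S.φ g⁻¹ := S.φ_comm_z _
  refine ⟨S.conj (S.φ g⁻¹), (hp.symm.twist hh).symm, conj_z_of_comm S hh, conj_K_of_comm S hh, ?_⟩
  rw [conj_ψ, map_inv, inv_inv, S.ψ_mul (Commute.mul_left (S.φ_comm_z g) hp.comm.symm)
    (Commute.inv_left (S.φ_comm_z g)), S.ψ_mul (S.φ_comm_z g) hp.comm.symm,
    S.ψ_inv (S.φ_comm_z g), S.ψ_φ, hgs]

end Base

end Cfsg.Agent.StdLy
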