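import Cfsg.Agent.Char.Integral
import Mathlib.GroupTheory.Perm.Centralizer
import Mathlib.GroupTheory.SpecificGroups.Alternating

/-!
Facts about involutions of the symmetric group of degree eleven and the perfect groups centralising them.
-/

set_option autoImplicit false
set_option maxRecDepth 100000
set_option linter.unusedSimpArgs false

namespace Cfsg.Agent.StdLy

open Equiv Equiv.Perm
open scoped commutatorElement

/-- Permutations of eleven points. -/
abbrev P11 := Equiv.Perm (Fin 11)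

/-- A three-cycle. -/
def p3 (a b c : Fin 11) : P11 := swap a b * swap b c

/-- Two transpositions. -/
def p2 (a b c d : Fin 11) : P11 := swap a b * swap c d

def s0 : P11 := p2 0 1 2 3 * p2 4 5 6 7
def cA : P11 := p3 0 2 4 * p3 1 3 5
def cB : P11 := p3 0 2 6 * p3 1 3 7
def cC : P11 := p3 0 4 6 * p3 1 5 7
def cD : P11 := p3 2 4 6 * p3 3 5 7
def xx : P11 := p3 8 9 10
def u0 : P11 := p2 0 2 1 3
def w0 : P11 := p2 0 1 8 9
def b0 : P11 := p2 0 1 4 5
def g0 : P11 := u0 * w0

theorem s0_sq : s0 * s0 = 1 := by decide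
theorem s0_card : s0.support.card = 8 := by decide
theorem u0_card : u0.support.card = 4 := by decide
theorem w0_card : w0.support.card = 4 := by decide
theorem b0_card : b0.support.card = 4 := by decide
theorem u0_sq : u0 * u0 = 1 := by decide
theorem w0_sq : w0 * w0 = 1 := by decide
theorem b0_sq : b0 * b0 = 1 := by decide

theorem threes_comm :
    cA ^ 3 = 1 ∧ cB ^ 3 = 1 ∧ cC ^ 3 = 1 ∧ cD ^ 3 = 1 ∧ xx ^ 3 = 1 ∧ cA * s0 = s0 * cA ∧
      cB * s0 = s0 * cB ∧ cC * s0 = s0 * cC ∧ cD * s0 = s0 * cD ∧ xx * s0 = s0 * xx ∧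
      cA * xx = xx * cA ∧ u0 * xx = xx * u0 ∧ g0 * s0 = s0 * g0 := by
  decide

theorem p4_fact : ∀ i k : Fin 3, (i, k) ≠ (0, 0) →
    (⁅cA ^ (i : ℕ) * xx ^ (k : ℕ), cB⁆ ≠ 1 ∧ ⁅cA ^ (i : ℕ) * xx ^ (k : ℕ), cB⁆ ≠ s0) ∨
      (⁅cA ^ (i : ℕ) * xx ^ (k : ℕ), g0⁆ ≠ 1 ∧ ⁅cA ^ (i : ℕ) * xx ^ (k : ℕ), g0⁆ ≠ s0) := by
  decide

theorem b0_fact : ∀ i k : Fin 3, i ≠ 0 →
    ⁅b0, cA ^ (i : ℕ) * xx ^ (k : ℕ)⁆ * ⁅b0, cA ^ (i : ℕ) * xx ^ (k : ℕ)⁆ = 1 ∧
      (⁅b0, cA ^ (i : ℕ) * xx ^ (k : ℕ)⁆).support.card = 4 := by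
  decide

theorem inv_involution {σ : P11} (h : σ * σ = 1) : σ⁻¹ = σ := inv_eq_of_mul_eq_one_right h

theorem cycleType_involution {σ : P11} (h : σ * σ = 1) :
    σ.cycleType = Multiset.replicate (σ.cycleType.card) 2 := by
  refine Multiset.eq_replicate_card.2 fun m hm => ?_
  have h1 : m ∣ 2 := (dvd_of_mem_cycleType hm).trans (orderOf_dvd_of_pow_eq_one (by rw [pow_two, h]))
  have h2 := two_le_of_mem_cycleType hm
  have := Nat.le_of_dvd (by norm_num) h1
  omega

theorem support_card_involution {σ : P11} (h : σ * σ = 1) :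
    σ.support.card = 2 * σ.cycleType.card := by
  have e := congrArg Multiset.sum (cycleType_involution h)
  rw [sum_cycleType, Multiset.sum_replicate, smul_eq_mul, mul_comm] at e
  exact e

/-- The possible supports of involutions. -/
theorem support_cases {σ : P11} (h : σ * σ = 1) :
    σ.support.card = 0 ∨ σ.support.card = 2 ∨ σ.support.card = 4 ∨ σ.support.card = 6 ∨
      σ.support.card = 8 ∨ σ.support.card = 10 := by
  have h1 := support_card_involution h
  have h2 : σ.support.card ≤ 11 := (Finset.card_le_univ _).trans_eq (Fintype.card_fin 11)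
  omega

/-- An even involution moves four or eight points. -/
theorem even_cases {σ : P11} (h : σ * σ = 1) (he : σ ∈ alternatingGroup (Fin 11)) (h1 : σ ≠ 1) :
    σ.support.card = 4 ∨ σ.support.card = 8 := by
  have hs := mem_alternatingGroup.1 he
  rw [sign_of_cycleType, cycleType_involution h, Multiset.sum_replicate, smul_eq_mul,
    Multiset.card_replicate] at hs
  have h2 := support_card_involution h
  have h0 : σ.support.card ≠ 0 := fun e => h1 (support_eq_empty_iff.1 (Finset.card_eq_zero.1 e))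
  have hev : Even σ.cycleType.card := by
    by_contra hodd
    rw [Nat.not_even_iff_odd] at hodd
    have : Odd (σ.cycleType.card * 2 + σ.cycleType.card) := by
      obtain ⟨r, hr⟩ := hodd
      exact ⟨3 * r + 1, by omega⟩
    rw [this.neg_one_pow] at hs
    exact absurd hs (by decide)
  obtain ⟨r, hr⟩ := hev
  rcases support_cases h with e | e | e | e | e | e <;> omega

theorem exists_conj_of_card {σ τ : P11} (hσ : σ * σ = 1) (hτ : τ * τ = 1)
    (h : σ.support.card = τ.support.card) : ∃ g : P11, g * σ * g⁻¹ = τ := by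
  refine isConj_iff.1 (isConj_iff_cycleType_eq.2 ?_)
  rw [cycleType_involution hσ, cycleType_involution hτ]
  have h1 := support_card_involution hσ
  have h2 := support_card_involution hτ
  congr 1
  omega

/-- Conjugation by an even permutation suffices. -/
theorem exists_conj_alt {σ τ : P11} (hσ : σ * σ = 1) (hτ : τ * τ = 1) (h1 : σ ≠ 1)
    (h : σ.support.card = τ.support.card) :
    ∃ g ∈ alternatingGroup (Fin 11), g * σ * g⁻¹ = τ := by
  obtain ⟨g, hg⟩ := exists_conj_of_card hσ hτ h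
  rcases Int.units_eq_one_or (sign g) with e | e
  · exact ⟨g, mem_alternatingGroup.2 e, hg⟩
  obtain ⟨i, hi⟩ : ∃ i, σ i ≠ i := by
    by_contra hc
    push Not at hc
    exact h1 (Equiv.ext hc)
  have hsw : swap i (σ i) * σ * (swap i (σ i))⁻¹ = σ := by
    have e1 : σ * swap i (σ i) * σ⁻¹ = swap i (σ i) := by
      rw [← Equiv.swap_apply_apply, swap_comm]
      congr 1
      rw [← Perm.mul_apply, hσ, Perm.one_apply]
    rw [mul_inv_eq_iff_eq_mul] at e1 ⊢
    exact e1.symm
  refine ⟨g * swap i (σ i), mem_alternatingGroup.2 ?_, ?_⟩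
  · rw [Perm.sign_mul, e, sign_swap (Ne.symm hi)]
    rfl
  · calc g * swap i (σ i) * σ * (g * swap i (σ i))⁻¹
        = g * (swap i (σ i) * σ * (swap i (σ i))⁻¹) * g⁻¹ := by group
      _ = τ := by rw [hsw, hg]

theorem card_centralizer_eight {σ : P11} (h : σ * σ = 1) (h8 : σ.support.card = 8) :
    Nat.card (Subgroup.centralizer ({σ} : Set P11)) = 2304 := by
  have hc : σ.cycleType.card = 4 := by have := support_card_involution h; omega
  rw [nat_card_centralizer, cycleType_involution h, hc, Fintype.card_fin]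
  decide

/-- A perfect subgroup of a solvable group is trivial. -/
theorem perfect_eq_bot {B : Type*} [Group B] [hB : Group.IsSolvable B] (R : Subgroup B)
    (hR : ⁅R, R⁆ = R) : R = ⊥ := by
  obtain ⟨n, hn⟩ := hB.solvable
  have : ∀ k, R ≤ derivedSeries B k := by
    intro k
    induction k with
    | zero => exact le_top
    | succ k ih =>
      rw [derivedSeries_succ, ← hR]
      exact Subgroup.commutator_mono ih ih
  rw [eq_bot_iff, ← hn]
  exact this n

/-- A perfect subgroup centralising an involution on eight points is trivial. -/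
theorem perfect_eight {σ : P11} (h : σ * σ = 1) (h8 : σ.support.card = 8) (R : Subgroup P11)
    (hR : ⁅R, R⁆ = R) (hc : R ≤ Subgroup.centralizer ({σ} : Set P11)) : R = ⊥ := by
  have : Group.IsSolvable (Subgroup.centralizer ({σ} : Set P11)) :=
    Char.isSolvable_of_card_eq 2 3 Nat.prime_two Nat.prime_three _ _ rfl
      ⟨8, 2, by rw [card_centralizer_eight h h8]; norm_num⟩
  have h1 := perfect_eq_bot (R.subgroupOf (Subgroup.centralizer ({σ} : Set P11))) (by
    apply Subgroup.map_injective (Subgroup.subtype_injective _)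
    rw [Subgroup.map_commutator, Subgroup.map_subgroupOf_eq_of_le hc, hR])
  rw [← Subgroup.map_subgroupOf_eq_of_le hc, h1, Subgroup.map_bot]

/-- A perfect group centralising an involution on four points does not contain it. -/
theorem perfect_four {σ : P11} (h4 : σ.support.card = 4) (R : Subgroup P11) (hR : ⁅R, R⁆ = R)
    (hc : R ≤ Subgroup.centralizer ({σ} : Set P11)) : σ ∉ R := by
  classical
  intro hσ
  let α := {i : Fin 11 // i ∈ σ.support}
  have hpres : ∀ g : R, ∀ i, (g : P11) i ∈ σ.support ↔ i ∈ σ.support := by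
    intro g i
    have e := Subgroup.mem_centralizer_singleton_iff.1 (hc g.2)
    rw [mem_support, mem_support, ← Perm.mul_apply, ← e, Perm.mul_apply]
    exact ((g : P11).injective).ne_iff
  let f : R →* Equiv.Perm α :=
    { toFun := fun g => (g : P11).subtypePerm (hpres g)
      map_one' := Equiv.ext fun i => Subtype.ext rfl
      map_mul' := fun g h => Equiv.ext fun i => Subtype.ext rfl }
  have hcard : Nat.card (Equiv.Perm α) = 24 := by
    rw [Nat.card_perm, Nat.card_eq_fintype_card, Fintype.card_coe, h4]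
    rfl
  have : Group.IsSolvable (Equiv.Perm α) :=
    Char.isSolvable_of_card_eq 2 3 Nat.prime_two Nat.prime_three _ _ rfl
      ⟨3, 1, by rw [hcard]; norm_num⟩
  have htop : ⁅(⊤ : Subgroup R), (⊤ : Subgroup R)⁆ = ⊤ := by
    apply Subgroup.map_injective (Subgroup.subtype_injective _)
    rw [Subgroup.map_commutator, ← MonoidHom.range_eq_map, Subgroup.range_subtype, hR]
  have h1 := perfect_eq_bot ((⊤ : Subgroup R).map f) (by rw [← Subgroup.map_commutator, htop])
  obtain ⟨i, hi⟩ : σ.support.Nonempty := Finset.card_pos.1 (by omega)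
  have h2 : f ⟨σ, hσ⟩ = 1 := Subgroup.mem_bot.1 (h1 ▸ Subgroup.mem_map_of_mem f (Subgroup.mem_top _))
  have h3 : σ i = i := congrArg Subtype.val (DFunLike.congr_fun h2 (⟨i, hi⟩ : α))
  exact mem_support.1 hi h3

/-- Generators of an alternating group of degree five on the last five points. -/
def l5 : Fin 6 → P11 := ![p3 7 10 8, p3 7 10 9, p3 6 7 8, p3 6 7 9, p3 6 8 10, p3 6 9 10]

/-- Generators of a perfect group centralising a fixed-point-free involution on ten points. -/
def l10 : Fin 8 → P11 :=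
  ![p3 2 8 4 * p3 3 9 5, p3 2 8 6 * p3 3 9 7, p3 0 2 4 * p3 1 3 5, p3 0 2 6 * p3 1 3 7,
    p3 0 4 8 * p3 1 5 9, p3 0 6 8 * p3 1 7 9, p2 4 5 8 9, p2 6 7 8 9]

/-- The witnesses that the generators are commutators of generators. -/
def l5w : Fin 6 → Fin 6 × Fin 6 := ![(1, 2), (0, 3), (3, 4), (2, 5), (5, 0), (4, 1)]

def l10w : Fin 8 → Fin 8 × Fin 8 := ![(1, 2), (0, 3), (3, 4), (2, 5), (5, 0), (4, 1), (7, 0), (6, 1)]

theorem l5_comm : ∀ i : Fin 6,
    ⁅l5 ((l5w i).1), l5 ((l5w i).2)⁆ = l5 i ∧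
      l5 i ∈ alternatingGroup (Fin 11) := by
  simp only [mem_alternatingGroup]
  decide

theorem l10_comm : ∀ i : Fin 8,
    ⁅l10 ((l10w i).1), l10 ((l10w i).2)⁆ = l10 i ∧
      l10 i ∈ alternatingGroup (Fin 11) := by
  simp only [mem_alternatingGroup]
  decide

/-- A perfect group of even permutations containing a double transposition. -/
structure Witness (σ : P11) where
  Q : Subgroup P11
  perfect : ⁅Q, Q⁆ = Q
  le_alt : Q ≤ alternatingGroup (Fin 11)
  comm : ∀ q ∈ Q, q * σ = σ * q
  d : P11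
  d_mem : d ∈ Q
  d_sq : d * d = 1
  d_card : d.support.card = 4

/-- A witness from generators. -/
def Witness.ofFun {k : ℕ} (σ : P11) (l : Fin k → P11) (w : Fin k → Fin k × Fin k)
    (hw : ∀ i, ⁅l (w i).1, l (w i).2⁆ = l i ∧ l i ∈ alternatingGroup (Fin 11))
    (hc : ∀ i, l i * σ = σ * l i) (d : P11) (hd : d ∈ Subgroup.closure (Set.range l))
    (hd2 : d * d = 1) (hd4 : d.support.card = 4) : Witness σ where
  Q := Subgroup.closure (Set.range l)
  perfect := by
    refine le_antisymm (Subgroup.commutator_le_self _) ?_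
    rw [Subgroup.closure_le]
    rintro _ ⟨i, rfl⟩
    rw [← (hw i).1]
    exact Subgroup.commutator_mem_commutator (Subgroup.subset_closure ⟨_, rfl⟩)
      (Subgroup.subset_closure ⟨_, rfl⟩)
  le_alt := by
    rw [Subgroup.closure_le]
    rintro _ ⟨i, rfl⟩
    exact (hw i).2
  comm q hq := by
    induction hq using Subgroup.closure_induction with
    | mem x hx => obtain ⟨i, rfl⟩ := hx; exact hc i
    | one => simp
    | mul a b _ _ ha hb => exact Commute.mul_left ha hb
    | inv a _ ha => exact Commute.inv_left ha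
  d := d
  d_mem := hd
  d_sq := hd2
  d_card := hd4

theorem Witness.conj {σ : P11} (W : Witness σ) (g : P11) : Nonempty (Witness (g * σ * g⁻¹)) := by
  refine ⟨⟨W.Q.map (MulAut.conj g).toMonoidHom, ?_, ?_, ?_, g * W.d * g⁻¹, ⟨W.d, W.d_mem, rfl⟩,
    ?_, ?_⟩⟩
  · rw [← Subgroup.map_commutator, W.perfect]
  · rintro _ ⟨q, hq, rfl⟩
    exact (inferInstance : (alternatingGroup (Fin 11)).Normal).conj_mem q (W.le_alt hq) g
  · rintro _ ⟨q, hq, rfl⟩
    show g * q * g⁻¹ * (g * σ * g⁻¹) = g * σ * g⁻¹ * (g * q * g⁻¹)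
    calc g * q * g⁻¹ * (g * σ * g⁻¹) = g * (q * σ) * g⁻¹ := by group
      _ = g * (σ * q) * g⁻¹ := by rw [W.comm q hq]
      _ = _ := by group
  · calc g * W.d * g⁻¹ * (g * W.d * g⁻¹) = g * (W.d * W.d) * g⁻¹ := by group
      _ = 1 := by rw [W.d_sq]; group
  · rw [card_support_conj, W.d_card]

theorem l5_comm_small : ∀ i : Fin 6,
    l5 i * 1 = 1 * l5 i ∧ l5 i * swap 0 1 = swap 0 1 * l5 i ∧
      l5 i * p2 0 1 2 3 = p2 0 1 2 3 * l5 i ∧
      l5 i * (p2 0 1 2 3 * swap 4 5) = p2 0 1 2 3 * swap 4 5 * l5 i := by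
  decide

theorem l10_comm_ten : ∀ i : Fin 8,
    l10 i * (s0 * swap 8 9) = s0 * swap 8 9 * l10 i := by
  decide

/-- Perfect witnesses for all involutions not on eight points. -/
theorem exists_witness {σ : P11} (h : σ * σ = 1) (h8 : σ.support.card ≠ 8) :
    Nonempty (Witness σ) := by
  have hA : ∀ τ : P11, (∀ i : Fin 6, l5 i * τ = τ * l5 i) → Nonempty (Witness τ) :=
    fun τ hc => ⟨Witness.ofFun τ l5 l5w l5_comm hc (p3 6 9 10 * p3 6 8 10)
      (mul_mem (Subgroup.subset_closure ⟨5, rfl⟩) (Subgroup.subset_closure ⟨4, rfl⟩))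
      (by decide) (by decide)⟩
  have key : ∀ τ : P11, τ * τ = 1 → τ.support.card = σ.support.card → Nonempty (Witness τ) →
      Nonempty (Witness σ) := by
    intro τ hτ hc ⟨W⟩
    obtain ⟨g, rfl⟩ := exists_conj_of_card hτ h hc
    exact W.conj g
  rcases support_cases h with e | e | e | e | e | e
  · exact key 1 (by decide) (by rw [e]; decide) (hA _ fun i => (l5_comm_small i).1)
  · exact key (swap 0 1) (by decide) (by rw [e]; decide) (hA _ fun i => (l5_comm_small i).2.1)
  · exact key (p2 0 1 2 3) (by decide) (by rw [e]; decide) (hA _ fun i => (l5_comm_small i).2.2.1)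
  · exact key (p2 0 1 2 3 * swap 4 5) (by decide) (by rw [e]; decide)
      (hA _ fun i => (l5_comm_small i).2.2.2)
  · exact absurd e h8
  · exact key (s0 * swap 8 9) (by decide) (by rw [e]; decide)
      ⟨Witness.ofFun _ l10 l10w l10_comm l10_comm_ten (p2 4 5 8 9)
        (Subgroup.subset_closure ⟨6, rfl⟩) (by decide) (by decide)⟩

/-- No element commuting with `cA` squares to `s0`. -/
theorem no_root {k : P11} (hk : k * cA = cA * k) (h2 : k * k = s0) : False := by
  have hs : k * s0 = s0 * k := by rw [← h2, mul_assoc]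
  have e6 : cA (k 6) = k 6 := by
    have := DFunLike.congr_fun hk 6
    simpa [Perm.mul_apply, show cA 6 = 6 by decide] using this.symm
  have hfix : ∀ i : Fin 11, cA i = i → i = 6 ∨ i = 7 ∨ s0 i = i := by decide
  have h7 : s0 6 = 7 := by decide
  have hsq : k (k 6) = 7 := by rw [← Perm.mul_apply, h2, h7]
  rcases hfix _ e6 with e | e | e
  · rw [e, e] at hsq
    exact absurd hsq (by decide)
  · rw [e] at hsq
    exact absurd (k.injective (hsq.trans e.symm)) (by decide)
  · rw [← Perm.mul_apply, ← hs, Perm.mul_apply, h7] at e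
    exact absurd (k.injective e) (by decide)

/-- The involution on eight points commuting with the five three-elements. -/
theorem eq_s0 {σ : P11} (h : σ * σ = 1) (h8 : σ.support.card = 8) (hx : σ * xx = xx * σ)
    (hA : σ * cA = cA * σ) (hB : σ * cB = cB * σ) (hC : σ * cC = cC * σ) (hD : σ * cD = cD * σ) :
    σ = s0 := by
  have ap : ∀ {τ : P11}, σ * τ = τ * σ → ∀ i, σ (τ i) = τ (σ i) := fun e i => DFunLike.congr_fun e i
  have inv : ∀ i, σ (σ i) = i := fun i => DFunLike.congr_fun h i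
  have fix : ∀ {τ : P11}, σ * τ = τ * σ → ∀ i, τ i = i → τ (σ i) = σ i := by
    intro τ e i hi
    rw [← ap e, hi]
  have q6 : ∀ i : Fin 11, cA i = i → i = 6 ∨ i = 7 ∨ i = 8 ∨ i = 9 ∨ i = 10 := by decide
  have q4 : ∀ i : Fin 11, cB i = i → i = 4 ∨ i = 5 ∨ i = 8 ∨ i = 9 ∨ i = 10 := by decide
  have q2 : ∀ i : Fin 11, cC i = i → i = 2 ∨ i = 3 ∨ i = 8 ∨ i = 9 ∨ i = 10 := by decide
  have q0 : ∀ i : Fin 11, cD i = i → i = 0 ∨ i = 1 ∨ i = 8 ∨ i = 9 ∨ i = 10 := by decide
  have qx : ∀ i : Fin 11, xx i ≠ i → i = 8 ∨ i = 9 ∨ i = 10 := by decide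
  have hm8 : σ 8 = 8 ∨ σ 8 = 9 ∨ σ 8 = 10 := by
    refine qx _ fun e => ?_
    rw [← ap hx] at e
    exact absurd (σ.injective e) (by decide)
  have h9 : σ 9 = xx (σ 8) := ap hx 8
  have h10 : σ 10 = xx (σ 9) := ap hx 9
  have f8 : σ 8 = 8 := by
    rcases hm8 with e | e | e
    · exact e
    · have := inv 8
      rw [e, h9, e] at this
      exact absurd this (by decide)
    · have := inv 8
      rw [e, h10, h9, e] at this
      exact absurd this (by decide)
  have f9 : σ 9 = 9 := by rw [h9, f8]; decide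
  have f10 : σ 10 = 10 := by rw [h10, f9]; decide
  have hsub : σ.support ⊆ ({0, 1, 2, 3, 4, 5, 6, 7} : Finset (Fin 11)) := by
    intro i hi
    rw [mem_support] at hi
    have : ∀ j : Fin 11, j ∈ ({0, 1, 2, 3, 4, 5, 6, 7} : Finset (Fin 11)) ∨ j = 8 ∨ j = 9 ∨ j = 10 := by
      decide
    rcases this i with r | rfl | rfl | rfl
    exacts [r, absurd f8 hi, absurd f9 hi, absurd f10 hi]
  have hmov : ∀ i ∈ ({0, 1, 2, 3, 4, 5, 6, 7} : Finset (Fin 11)), σ i ≠ i := by
    intro i hi
    rw [← mem_support, Finset.eq_of_subset_of_card_le hsub (by rw [h8]; decide)]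
    exact hi
  have nf : ∀ i ∈ ({0, 1, 2, 3, 4, 5, 6, 7} : Finset (Fin 11)), σ i ≠ 8 ∧ σ i ≠ 9 ∧ σ i ≠ 10 := by
    intro i hi
    refine ⟨fun e => ?_, fun e => ?_, fun e => ?_⟩ <;>
      · have := inv i
        rw [e] at this
        first
          | (rw [f8] at this; subst this; exact absurd hi (by decide))
          | (rw [f9] at this; subst this; exact absurd hi (by decide))
          | (rw [f10] at this; subst this; exact absurd hi (by decide))
  have s6 : σ 6 = 7 := by
    rcases q6 _ (fix hA 6 (by decide)) with e | e | e | e | e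
    exacts [absurd e (hmov 6 (by decide)), e, absurd e (nf 6 (by decide)).1,
      absurd e (nf 6 (by decide)).2.1, absurd e (nf 6 (by decide)).2.2]
  have s4 : σ 4 = 5 := by
    rcases q4 _ (fix hB 4 (by decide)) with e | e | e | e | e
    exacts [absurd e (hmov 4 (by decide)), e, absurd e (nf 4 (by decide)).1,
      absurd e (nf 4 (by decide)).2.1, absurd e (nf 4 (by decide)).2.2]
  have s2 : σ 2 = 3 := by
    rcases q2 _ (fix hC 2 (by decide)) with e | e | e | e | e
    exacts [absurd e (hmov 2 (by decide)), e, absurd e (nf 2 (by decide)).1,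
      absurd e (nf 2 (by decide)).2.1, absurd e (nf 2 (by decide)).2.2]
  have s0' : σ 0 = 1 := by
    rcases q0 _ (fix hD 0 (by decide)) with e | e | e | e | e
    exacts [absurd e (hmov 0 (by decide)), e, absurd e (nf 0 (by decide)).1,
      absurd e (nf 0 (by decide)).2.1, absurd e (nf 0 (by decide)).2.2]
  have s7 : σ 7 = 6 := by rw [← s6, inv]
  have s5 : σ 5 = 4 := by rw [← s4, inv]
  have s3 : σ 3 = 2 := by rw [← s2, inv]
  have s1 : σ 1 = 0 := by rw [← s0', inv]
  refine Equiv.ext fun i => ?_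
  have hcases : ∀ j : Fin 11, j = 0 ∨ j = 1 ∨ j = 2 ∨ j = 3 ∨ j = 4 ∨ j = 5 ∨ j = 6 ∨ j = 7 ∨
      j = 8 ∨ j = 9 ∨ j = 10 := by decide
  rcases hcases i with rfl | rfl | rfl | rfl | rfl | rfl | rfl | rfl | rfl | rfl | rfl <;>
    simp only [s0', s1, s2, s3, s4, s5, s6, s7, f8, f9, f10] <;> decide

end Cfsg.Agent.StdLy
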